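import Cfsg.Agent.SL2Class.Norm

/-!
Elements of SL(2, F): centralisers and conjugacy in terms of the trace.
-/

set_option autoImplicit false

namespace Cfsg.Agent.SL2Class

open Matrix

variable {F : Type*} [Field F]

local notation "SG" => Matrix.SpecialLinearGroup (Fin 2) F
local notation "M2" => Matrix (Fin 2) (Fin 2) F
local notation:1024 "↥ₘ" A:1024 => ((A : Matrix.SpecialLinearGroup (Fin 2) F) : Matrix (Fin 2) (Fin 2) F)

/-- The trace. -/
def tr (g : SG) : F := (↥ₘ g) 0 0 + (↥ₘ g) 1 1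

/-- Not a scalar matrix. -/
def NonScalar (g : SG) : Prop := ¬ ((↥ₘ g) 0 1 = 0 ∧ (↥ₘ g) 1 0 = 0 ∧ (↥ₘ g) 0 0 = (↥ₘ g) 1 1)

theorem det_eq (g : SG) : (↥ₘ g) 0 0 * (↥ₘ g) 1 1 - (↥ₘ g) 0 1 * (↥ₘ g) 1 0 = 1 := by
  rw [← det_fin_two]; exact g.2

/-- `a + b g` as a matrix. -/
def lin (g : SG) (a b : F) : M2 := a • (1 : M2) + b • ↥ₘ g

theorem lin_apply (g : SG) (a b : F) (i j : Fin 2) :
    lin g a b i j = a * (1 : M2) i j + b * (↥ₘ g) i j := rfl

theorem det_lin (g : SG) (a b : F) : (lin g a b).det = N2 (tr g) a b := by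
  rw [det_fin_two]
  simp [lin_apply, N2, tr]
  linear_combination b * b * det_eq g

theorem lin_one (g : SG) : lin g 1 0 = 1 := by ext i j; simp [lin_apply]

theorem lin_self (g : SG) : lin g 0 1 = ↥ₘ g := by ext i j; simp [lin_apply]

theorem g_sq (g : SG) : ↥ₘ g * ↥ₘ g = lin g (-1) (tr g) := by
  ext i j
  fin_cases i <;> fin_cases j <;> simp [lin_apply, tr, Matrix.mul_apply, Fin.sum_univ_two]
  · linear_combination -det_eq g
  · ring
  · ring
  · linear_combination -det_eq g

theorem inv_eq (g : SG) : ↥ₘ g⁻¹ = lin g (tr g) (-1) := by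
  rw [Matrix.SpecialLinearGroup.coe_inv, Matrix.adjugate_fin_two]
  ext i j
  fin_cases i <;> fin_cases j <;> simp [lin_apply, tr] <;> ring

theorem lin_mul (g : SG) (a b c d : F) :
    lin g a b * lin g c d = lin g (a * c - b * d) (a * d + b * c + tr g * b * d) := by
  have h := g_sq g
  simp only [lin] at h ⊢
  simp only [add_mul, mul_add, smul_mul_smul_comm, one_mul, mul_one, h, smul_add, smul_smul]
  module

theorem lin_comm (g : SG) (a b c d : F) : lin g a b * lin g c d = lin g c d * lin g a b := by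
  rw [lin_mul, lin_mul]; congr 1 <;> ring

theorem lin_ext {g : SG} (hg : NonScalar g) {a b c d : F} (h : lin g a b = lin g c d) : a = c ∧ b = d := by
  have h00 := congrFun (congrFun h 0) 0
  have h01 := congrFun (congrFun h 0) 1
  have h10 := congrFun (congrFun h 1) 0
  have h11 := congrFun (congrFun h 1) 1
  simp [lin_apply] at h00 h01 h10 h11
  have hb : b = d := by
    by_contra hne
    refine hg ⟨?_, ?_, ?_⟩
    · exact h01.resolve_left hne
    · exact h10.resolve_left hne
    · exact mul_left_cancel₀ (sub_ne_zero.2 hne) (by linear_combination h00 - h11)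
  exact ⟨by rw [hb] at h00; linear_combination h00, hb⟩

theorem exists_lin {g : SG} (hg : NonScalar g) {M : M2} (h : M * ↥ₘ g = ↥ₘ g * M) :
    ∃ a b, M = lin g a b := by
  have e00 := congrFun (congrFun h 0) 0
  have e01 := congrFun (congrFun h 0) 1
  have e10 := congrFun (congrFun h 1) 0
  simp [Matrix.mul_apply, Fin.sum_univ_two] at e00 e01 e10
  by_cases h01 : (↥ₘ g) 0 1 = 0
  · by_cases h10 : (↥ₘ g) 1 0 = 0
    · have hd : (↥ₘ g) 0 0 - (↥ₘ g) 1 1 ≠ 0 := sub_ne_zero.2 fun e => hg ⟨h01, h10, e⟩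
      refine ⟨M 0 0 - (M 0 0 - M 1 1) / ((↥ₘ g) 0 0 - (↥ₘ g) 1 1) * (↥ₘ g) 0 0,
        (M 0 0 - M 1 1) / ((↥ₘ g) 0 0 - (↥ₘ g) 1 1), ?_⟩
      simp [h01, h10] at e01 e10
      have hM01 : M 0 1 = 0 := mul_left_cancel₀ hd (by linear_combination -e01)
      have hM10 : M 1 0 = 0 := mul_left_cancel₀ hd (by linear_combination e10)
      ext i j
      fin_cases i <;> fin_cases j <;> simp [lin_apply, h01, h10, hM01, hM10]
      field_simp
      ring
    · refine ⟨M 0 0 - M 1 0 / (↥ₘ g) 1 0 * (↥ₘ g) 0 0, M 1 0 / (↥ₘ g) 1 0, ?_⟩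
      ext i j
      fin_cases i <;> fin_cases j <;> simp [lin_apply] <;> field_simp
      · linear_combination e00
      · linear_combination e10
  · refine ⟨M 0 0 - M 0 1 / (↥ₘ g) 0 1 * (↥ₘ g) 0 0, M 0 1 / (↥ₘ g) 0 1, ?_⟩
    ext i j
    fin_cases i <;> fin_cases j <;> simp [lin_apply] <;> field_simp
    · linear_combination -e00
    · linear_combination -e01

theorem mem_centralizer {g : SG} (hg : NonScalar g) {h : SG} :
    h ∈ Subgroup.centralizer ({g} : Set SG) ↔ ∃ a b, ↥ₘ h = lin g a b := by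
  rw [Subgroup.mem_centralizer_singleton_iff]
  constructor
  · intro e
    exact exists_lin hg (congrArg (fun A : SG => ↥ₘ A) e)
  · rintro ⟨a, b, e⟩
    refine Subtype.ext ?_
    show ↥ₘ h * ↥ₘ g = ↥ₘ g * ↥ₘ h
    rw [e, ← lin_self g, lin_comm, lin_self]

/-- The element `a + b g` of the centraliser. -/
def cen (g : SG) (p : N2One (tr g)) : SG := ⟨lin g p.1.1 p.1.2, by rw [det_lin]; exact p.2⟩

theorem cen_coe (g : SG) (p : N2One (tr g)) : ↥ₘ(cen g p) = lin g p.1.1 p.1.2 := rfl

theorem card_centralizer {g : SG} (hg : NonScalar g) :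
    Nat.card (Subgroup.centralizer ({g} : Set SG)) = Nat.card (N2One (tr g)) := by
  refine (Nat.card_eq_of_bijective
    (fun p => (⟨cen g p, (mem_centralizer hg).2 ⟨_, _, rfl⟩⟩ : Subgroup.centralizer ({g} : Set SG))) ⟨?_, ?_⟩).symm
  · intro p p' e
    obtain ⟨h1, h2⟩ := lin_ext hg (congrArg (fun A : Subgroup.centralizer ({g} : Set SG) => ↥ₘ(A : SG)) e)
    exact Subtype.ext (Prod.ext h1 h2)
  · rintro ⟨h, hh⟩
    obtain ⟨a, b, e⟩ := (mem_centralizer hg).1 hh
    exact ⟨⟨(a, b), by rw [← det_lin, ← e]; exact h.2⟩, Subtype.ext (Subtype.ext e.symm)⟩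

theorem nonScalar_of_sq_ne {g : SG} (h : tr g * tr g ≠ 4) : NonScalar g := by
  rintro ⟨h1, h2, h3⟩
  refine h ?_
  have := det_eq g
  rw [h1, h3] at this
  rw [tr, h3]
  linear_combination 4 * this

theorem mem_center_iff {g : SG} : g ∈ Subgroup.center SG ↔ ¬ NonScalar g := by
  rw [Matrix.SpecialLinearGroup.mem_center_iff, NonScalar, not_not]
  constructor
  · rintro ⟨r, -, hr⟩
    rw [← hr]
    simp
  · rintro ⟨h1, h2, h3⟩
    refine ⟨(↥ₘ g) 0 0, ?_, ?_⟩
    · have := det_eq g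
      rw [h1, ← h3] at this
      rw [Fintype.card_fin]
      linear_combination this
    · ext i j
      fin_cases i <;> fin_cases j <;> simp [h1, h2, h3]

theorem scalar_cases {g : SG} (hg : ¬ NonScalar g) : ↥ₘ g = 1 ∨ ↥ₘ g = -1 := by
  rw [NonScalar, not_not] at hg
  obtain ⟨h1, h2, h3⟩ := hg
  have := det_eq g
  rw [h1, ← h3] at this
  rcases mul_self_eq_one_iff.1 (show (↥ₘ g) 0 0 * (↥ₘ g) 0 0 = 1 by linear_combination this) with e | e
  · left; ext i j; fin_cases i <;> fin_cases j <;> simp [h1, h2, ← h3, e]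
  · right; ext i j; fin_cases i <;> fin_cases j <;> simp [h1, h2, ← h3, e]

theorem not_nonScalar_one : ¬ NonScalar (1 : SG) := fun h => h ⟨by simp, by simp, by simp⟩

theorem ne_one_of_nonScalar {g : SG} (hg : NonScalar g) : g ≠ 1 := by
  rintro rfl; exact not_nonScalar_one hg

/-- The companion matrix of trace `t`. -/
def comp (t : F) : SG := ⟨!![0, -1; 1, t], by simp [det_fin_two_of]⟩

theorem coe_comp (t : F) : ↥ₘ(comp t) = !![0, -1; 1, t] := rfl

@[simp] theorem tr_comp (t : F) : tr (comp t) = t := by simp [tr, coe_comp]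

theorem nonScalar_comp (t : F) : NonScalar (comp t) := fun h => by simpa [coe_comp] using h.2.1

theorem exists_to_comp {g : SG} (hg : NonScalar g) :
    ∃ P : M2, P.det ≠ 0 ∧ ↥ₘ g * P = P * ↥ₘ(comp (tr g)) := by
  obtain ⟨x, y, hxy⟩ : ∃ x y : F, x * ((↥ₘ g) 1 0 * x + (↥ₘ g) 1 1 * y) -
      y * ((↥ₘ g) 0 0 * x + (↥ₘ g) 0 1 * y) ≠ 0 := by
    by_cases h10 : (↥ₘ g) 1 0 = 0
    · by_cases h01 : (↥ₘ g) 0 1 = 0
      · exact ⟨1, 1, fun e => hg ⟨h01, h10, by linear_combination -e + h10 - h01⟩⟩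
      · exact ⟨0, 1, fun e => h01 (by linear_combination -e)⟩
    · exact ⟨1, 0, fun e => h10 (by linear_combination e)⟩
  refine ⟨!![x, (↥ₘ g) 0 0 * x + (↥ₘ g) 0 1 * y; y, (↥ₘ g) 1 0 * x + (↥ₘ g) 1 1 * y],
    by rw [det_fin_two_of]; intro e; exact hxy (by linear_combination e), ?_⟩
  ext i j
  fin_cases i <;> fin_cases j <;>
    simp [coe_comp, tr, Matrix.mul_apply, Fin.sum_univ_two, Matrix.vecMul, dotProduct] <;>
    first
      | ring1
      | linear_combination (-x) * det_eq g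
      | linear_combination (-y) * det_eq g

theorem exists_conjugator {g h : SG} (hg : NonScalar g) (hh : NonScalar h) (ht : tr g = tr h) :
    ∃ P : M2, P.det ≠ 0 ∧ P * ↥ₘ g = ↥ₘ h * P := by
  obtain ⟨P, hP, hgP⟩ := exists_to_comp hg
  obtain ⟨Q, hQ, hhQ⟩ := exists_to_comp hh
  refine ⟨Q * P.adjugate, by
    rw [Matrix.det_mul, Matrix.det_adjugate]; exact mul_ne_zero hQ (pow_ne_zero _ hP), ?_⟩
  have key : P.det • (P.adjugate * ↥ₘ g) = P.det • (↥ₘ(comp (tr g)) * P.adjugate) := by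
    have e := congrArg (fun M : M2 => P.adjugate * M * P.adjugate) hgP
    simp only [← Matrix.mul_assoc, Matrix.adjugate_mul] at e
    simp only [Matrix.mul_assoc, Matrix.mul_adjugate] at e
    simpa [Matrix.smul_mul, Matrix.mul_smul] using e
  have key' := smul_right_injective M2 hP key
  rw [Matrix.mul_assoc, key', ← Matrix.mul_assoc, ← Matrix.mul_assoc, hhQ, ht]

theorem tr_conj (h g : SG) : tr (h * g * h⁻¹) = tr g := by
  have e : ∀ A : SG, tr A = Matrix.trace ↥ₘ A := fun A => by simp [tr, Matrix.trace, Matrix.diag, Fin.sum_univ_two]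
  rw [e, e, Matrix.SpecialLinearGroup.coe_mul, Matrix.trace_mul_comm, ← Matrix.SpecialLinearGroup.coe_mul,
    inv_mul_cancel_left]

theorem tr_eq_of_isConj {g h : SG} (e : IsConj g h) : tr g = tr h := by
  obtain ⟨c, hc⟩ := isConj_iff.1 e
  rw [← hc, tr_conj]

theorem nonScalar_conj {g : SG} (hg : NonScalar g) (h : SG) : NonScalar (h * g * h⁻¹) := by
  by_contra hn
  rw [← mem_center_iff] at hn
  have := Subgroup.mem_center_iff.1 hn h
  refine mem_center_iff.1 ?_ hg
  rw [show g = h * g * h⁻¹ from ?_]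
  · exact hn
  · have e : h * (h * g * h⁻¹) * h⁻¹ = h * g * h⁻¹ := by rw [this]; group
    calc g = h⁻¹ * (h * g * h⁻¹) * h := by group
      _ = h⁻¹ * (h * (h * g * h⁻¹) * h⁻¹) * h := by rw [e]
      _ = h * g * h⁻¹ := by group

/-- Conjugacy in SL(2) through a conjugator in GL(2). -/
theorem isConj_iff_N2 {g h : SG} (hg : NonScalar g) {P : M2} (hP : P.det ≠ 0) (hPg : P * ↥ₘ g = ↥ₘ h * P) :
    IsConj g h ↔ ∃ a b, N2 (tr g) a b = P.det := by
  constructor
  · intro hc
    obtain ⟨Q, hQ⟩ := isConj_iff.1 hc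
    have hQ' : ↥ₘ Q * ↥ₘ g = ↥ₘ h * ↥ₘ Q := by
      rw [← Matrix.SpecialLinearGroup.coe_mul, ← Matrix.SpecialLinearGroup.coe_mul, ← hQ, inv_mul_cancel_right]
    have hQi : ↥ₘ g * ↥ₘ Q⁻¹ = ↥ₘ Q⁻¹ * ↥ₘ h := by
      rw [← Matrix.SpecialLinearGroup.coe_mul, ← Matrix.SpecialLinearGroup.coe_mul, ← hQ]
      congr 1; rw [mul_assoc Q, inv_mul_cancel_left]
    obtain ⟨a, b, e⟩ := exists_lin hg (M := ↥ₘ Q⁻¹ * P)
      (by rw [Matrix.mul_assoc, hPg, ← Matrix.mul_assoc, ← hQi, Matrix.mul_assoc])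
    refine ⟨a, b, ?_⟩
    rw [← det_lin, ← e, Matrix.det_mul, (Q⁻¹).2, one_mul]
  · rintro ⟨a, b, e⟩
    set c := P.det
    set Q : M2 := c⁻¹ • (P * lin g (a + tr g * b) (-b)) with hQ
    have hQd : Q.det = 1 := by
      rw [hQ, Matrix.det_smul, Fintype.card_fin, Matrix.det_mul, det_lin,
        show N2 (tr g) (a + tr g * b) (-b) = N2 (tr g) a b by simp only [N2]; ring, e]
      field_simp
      rfl
    refine isConj_iff.2 ⟨⟨Q, hQd⟩, mul_inv_eq_of_eq_mul (Subtype.ext ?_)⟩
    show Q * ↥ₘ g = ↥ₘ h * Q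
    rw [hQ, Matrix.smul_mul, Matrix.mul_smul, Matrix.mul_assoc, ← lin_self g, lin_comm g _ _ 0 1, lin_self,
      ← Matrix.mul_assoc, hPg, Matrix.mul_assoc]

theorem isConj_of_tr [Fintype F] {g h : SG} (hg : NonScalar g) (hh : NonScalar h) (ht : tr g = tr h)
    (hd : tr g * tr g ≠ 4 ∨ (2 : F) = 0) : IsConj g h := by
  obtain ⟨P, hP, hPg⟩ := exists_conjugator hg hh ht
  exact (isConj_iff_N2 hg hP hPg).2 (exists_N2_eq hd _)

/-- An element of the centraliser of a non-scalar element, itself not scalar, has the same centraliser. -/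
theorem centralizer_eq {g x : SG} (hg : NonScalar g) (hx : x ∈ Subgroup.centralizer ({g} : Set SG))
    (hxs : NonScalar x) : Subgroup.centralizer ({x} : Set SG) = Subgroup.centralizer ({g} : Set SG) := by
  obtain ⟨a, b, e⟩ := (mem_centralizer hg).1 hx
  have hb : b ≠ 0 := fun hb => hxs (by rw [e, hb]; simp [lin_apply])
  ext h
  rw [mem_centralizer hg, mem_centralizer hxs]
  constructor
  · rintro ⟨c, d, e'⟩
    refine ⟨c + d * a, d * b, ?_⟩
    rw [e']
    ext i j
    simp only [lin_apply, e]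
    ring
  · rintro ⟨c, d, e'⟩
    refine ⟨c - d * a / b, d / b, ?_⟩
    rw [e']
    ext i j
    simp only [lin_apply, e]
    field_simp
    ring

theorem centralizer_comm {g : SG} (hg : NonScalar g) {x y : SG} (hx : x ∈ Subgroup.centralizer ({g} : Set SG))
    (hy : y ∈ Subgroup.centralizer ({g} : Set SG)) : x * y = y * x := by
  obtain ⟨a, b, e⟩ := (mem_centralizer hg).1 hx
  obtain ⟨c, d, e'⟩ := (mem_centralizer hg).1 hy
  refine Subtype.ext ?_
  show ↥ₘ x * ↥ₘ y = ↥ₘ y * ↥ₘ x
  rw [e, e', lin_comm]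

/-- The centraliser of a semisimple element is cyclic. -/
theorem isCyclic_centralizer [Fintype F] {g : SG} (ht : tr g * tr g ≠ 4) :
    IsCyclic (Subgroup.centralizer ({g} : Set SG)) := by
  classical
  have hg := nonScalar_of_sq_ne ht
  obtain ⟨l, hl⟩ := IsAlgClosed.exists_root
    ((Polynomial.X : Polynomial (AlgebraicClosure F)) ^ 2 -
      Polynomial.C (algebraMap F (AlgebraicClosure F) (tr g)) * Polynomial.X + 1)
    (by
      intro h
      have : Polynomial.coeff ((Polynomial.X : Polynomial (AlgebraicClosure F)) ^ 2 -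
        Polynomial.C (algebraMap F (AlgebraicClosure F) (tr g)) * Polynomial.X + 1) 2 = 0 := by
        refine Polynomial.coeff_eq_zero_of_degree_lt ?_
        rw [h]
        decide
      simp [Polynomial.coeff_one] at this)
  set e := algebraMap F (AlgebraicClosure F)
  have hl' : l * l - e (tr g) * l + 1 = 0 := by
    have := hl
    simp [Polynomial.IsRoot] at this
    linear_combination this
  choose co hco using fun h : Subgroup.centralizer ({g} : Set SG) => (mem_centralizer hg).1 h.2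
  choose co' hco' using hco
  let φ : Subgroup.centralizer ({g} : Set SG) →* AlgebraicClosure F :=
    { toFun := fun h => e (co h) + e (co' h) * l
      map_one' := by
        have h1 : lin g (co 1) (co' 1) = lin g 1 0 := by rw [← hco', lin_one]; rfl
        obtain ⟨r1, r2⟩ := lin_ext hg h1
        rw [r1, r2, map_one, map_zero, zero_mul, add_zero]
      map_mul' := fun h k => by
        have h1 : lin g (co (h * k)) (co' (h * k)) =
            lin g (co h * co k - co' h * co' k) (co h * co' k + co' h * co k + tr g * co' h * co' k) := by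
          rw [← lin_mul, ← hco', ← hco', ← hco']; rfl
        obtain ⟨r1, r2⟩ := lin_ext hg h1
        rw [r1, r2]
        simp only [map_sub, map_add, map_mul]
        linear_combination -(e (co' h) * e (co' k)) * hl' }
  refine isCyclic_of_injective_ringHom φ ?_
  rw [injective_iff_map_eq_one]
  intro h hh
  have h1 : e (co h) + e (co' h) * l = 1 := hh
  have hN : N2 (e (tr g)) (e (co h)) (e (co' h)) = 1 := by
    have hd : N2 (tr g) (co h) (co' h) = 1 := by rw [← det_lin, ← hco']; exact (h : SG).2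
    rw [show N2 (e (tr g)) (e (co h)) (e (co' h)) = e (N2 (tr g) (co h) (co' h)) by
      simp [N2], hd, map_one]
  rw [N2_split hl', h1, one_mul] at hN
  have h4 : e (tr g) * e (tr g) ≠ 4 := by
    rw [← map_mul]
    exact fun he => ht (e.injective (by rw [he, map_ofNat]))
  have hb : e (co' h) = 0 := by
    have h3 : e (co' h) * (l - (e (tr g) - l)) = 0 := by linear_combination h1 - hN
    exact (mul_eq_zero.1 h3).resolve_right (sub_ne_zero.2 (roots_ne hl' h4))
  have ha : co h = 1 := e.injective (by rw [map_one, ← h1, hb, zero_mul, add_zero])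
  exact Subtype.ext (Subtype.ext (by rw [hco', ha, (map_eq_zero e).1 hb, lin_one]; rfl))

end Cfsg.Agent.SL2Class
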