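import Cfsg.Agent.SL2Class.Basic
import Cfsg.Agent.Classical.Linear2

/-!
Conjugacy classes of SL(2, F) and the orders of its elements.
-/

set_option autoImplicit false

namespace Cfsg.Agent.SL2Class

open Matrix

theorem card_carrier_eq {G : Type*} [Group G] (g : G) :
    Nat.card (ConjClasses.mk g).carrier = (Subgroup.centralizer ({g} : Set G)).index := by
  have h := MulAction.index_stabilizer (ConjAct G) g
  rw [ConjAct.orbit_eq_carrier_conjClasses, ConjAct.stabilizer_eq_centralizer] at h
  exact h.symm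

theorem card_carrier_mul {G : Type*} [Group G] (g : G) :
    Nat.card (ConjClasses.mk g).carrier * Nat.card (Subgroup.centralizer ({g} : Set G)) = Nat.card G := by
  rw [card_carrier_eq, Subgroup.index_mul_card]

variable {F : Type*} [Field F]

local notation "SG" => Matrix.SpecialLinearGroup (Fin 2) F
local notation "M2" => Matrix (Fin 2) (Fin 2) F
local notation:1024 "↥ₘ" A:1024 => ((A : Matrix.SpecialLinearGroup (Fin 2) F) : Matrix (Fin 2) (Fin 2) F)

theorem coe_neg_one : ↥ₘ(-1 : SG) = -1 := by simp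

theorem tr_neg (g : SG) : tr (-g) = -tr g := by simp [tr]; ring

theorem neg_mul_self_eq : (-1 : SG) * -1 = 1 := Subtype.ext (by simp)

theorem nonScalar_neg {g : SG} (hg : NonScalar g) : NonScalar (-g) := by
  intro h
  simp at h
  exact hg h

theorem neg_one_ne_one (h2 : (2 : F) ≠ 0) : (-1 : SG) ≠ 1 := fun e => by
  have := congrFun (congrFun (congrArg (fun A : SG => ↥ₘ A) e) 0) 0
  simp at this
  exact h2 (by linear_combination -this)

theorem not_nonScalar_neg_one : ¬ NonScalar (-1 : SG) := fun h => h ⟨by simp, by simp, by simp⟩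

theorem scalar_eq {g : SG} (hg : ¬ NonScalar g) : g = 1 ∨ g = -1 := by
  rcases scalar_cases hg with e | e
  · exact Or.inl (Subtype.ext e)
  · exact Or.inr (Subtype.ext (by rw [e, coe_neg_one]))

theorem neg_one_mem_center : (-1 : SG) ∈ Subgroup.center SG := mem_center_iff.2 not_nonScalar_neg_one

theorem mem_center_cases {g : SG} : g ∈ Subgroup.center SG ↔ g = 1 ∨ g = -1 := by
  rw [mem_center_iff]
  constructor
  · exact scalar_eq
  · rintro (rfl | rfl)
    · exact not_nonScalar_one
    · exact not_nonScalar_neg_one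

theorem neg_eq_mul (g : SG) : -g = -1 * g := Subtype.ext (by simp)

theorem center_card (h2 : (2 : F) ≠ 0) : Nat.card (Subgroup.center SG) = 2 := by
  classical
  rw [Nat.card_eq_two_iff' ⟨1, one_mem _⟩]
  refine ⟨⟨-1, neg_one_mem_center⟩, fun e => neg_one_ne_one h2 (congrArg Subtype.val e), ?_⟩
  rintro ⟨g, hg⟩ hne
  rcases mem_center_cases.1 hg with rfl | rfl
  · exact absurd rfl hne
  · rfl

theorem center_eq_bot (h2 : (2 : F) = 0) : Subgroup.center SG = ⊥ := by
  rw [Subgroup.eq_bot_iff_forall]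
  intro g hg
  rcases mem_center_cases.1 hg with h | h
  · exact h
  · rw [h]
    refine Subtype.ext ?_
    ext i j
    fin_cases i <;> fin_cases j <;> simp
    · linear_combination -h2
    · linear_combination -h2

section finite

variable [Fintype F]

theorem card_sl : Nat.card SG = Fintype.card F * (Fintype.card F ^ 2 - 1) := by
  obtain ⟨p, hp⟩ := CharP.exists F
  haveI := Fact.mk (CharP.char_is_prime F p)
  exact Classical.card_sl2

theorem card_cent_noRoot {g : SG} (ht : NoRoot (tr g)) (hg : NonScalar g) :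
    Nat.card (Subgroup.centralizer ({g} : Set SG)) = Fintype.card F + 1 := by
  rw [card_centralizer hg, card_noRoot_points ht]

theorem card_cent_split {g : SG} {r : F} (hr : r * r - tr g * r + 1 = 0) (ht : tr g * tr g ≠ 4) :
    Nat.card (Subgroup.centralizer ({g} : Set SG)) = Fintype.card F - 1 := by
  rw [card_centralizer (nonScalar_of_sq_ne ht), card_root_points hr ht]

theorem card_cent_double {g : SG} (h2 : (2 : F) ≠ 0) (hg : NonScalar g) (ht : tr g * tr g = 4) :
    Nat.card (Subgroup.centralizer ({g} : Set SG)) = 2 * Fintype.card F := by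
  rw [card_centralizer hg, card_double_odd h2 ht]

theorem card_cent_double_even {g : SG} (h2 : (2 : F) = 0) (hg : NonScalar g) (ht : tr g = 0) :
    Nat.card (Subgroup.centralizer ({g} : Set SG)) = Fintype.card F := by
  rw [card_centralizer hg, card_double_even h2 ht]

theorem card_cent_semisimple {g : SG} (ht : tr g * tr g ≠ 4) :
    Nat.card (Subgroup.centralizer ({g} : Set SG)) = Fintype.card F - 1 ∨
      Nat.card (Subgroup.centralizer ({g} : Set SG)) = Fintype.card F + 1 := by
  rcases noRoot_or_root (tr g) with h | ⟨r, hr⟩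
  · exact Or.inr (card_cent_noRoot h (nonScalar_of_sq_ne ht))
  · exact Or.inl (card_cent_split hr ht)

theorem sq_eq_four_iff_even (h2 : (2 : F) = 0) (t : F) : t * t = 4 ↔ t = 0 := by
  rw [show (4 : F) = 0 by linear_combination 2 * h2]
  exact mul_self_eq_zero

theorem pow_of_tr_two {g : SG} (ht : tr g = 2) : ∀ k : ℕ, ↥ₘ(g ^ k) = lin g (1 - k) k
  | 0 => by simp [lin_one]
  | k + 1 => by
    rw [pow_succ]
    show ↥ₘ(g ^ k) * ↥ₘ g = _
    rw [pow_of_tr_two ht k]
    conv_lhs => arg 2; rw [← lin_self g]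
    rw [lin_mul, ht]
    push_cast
    congr 1 <;> ring

/-- A non-scalar element of trace 2 has order `p`. -/
theorem orderOf_of_tr_two {g : SG} (hg : NonScalar g) (ht : tr g = 2) (p : ℕ) [Fact p.Prime] [CharP F p] :
    orderOf g = p := by
  refine orderOf_eq_prime (Subtype.ext ?_) (ne_one_of_nonScalar hg)
  rw [pow_of_tr_two ht, CharP.cast_eq_zero, sub_zero, lin_one]
  rfl

theorem tr_of_orderOf {g : SG} (p : ℕ) [Fact p.Prime] [CharP F p] (hg : orderOf g = p) :
    NonScalar g ∧ tr g = 2 := by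
  classical
  have hp := (Fact.out : p.Prime)
  have hne : g ≠ 1 := fun e => by rw [e, orderOf_one] at hg; exact hp.ne_one hg.symm
  have hpow : g ^ p = 1 := hg ▸ pow_orderOf_eq_one g
  have hm1 : (-1 : SG) ^ p = 1 → (2 : F) = 0 := by
    intro e
    rcases hp.eq_two_or_odd' with rfl | hodd
    · exact_mod_cast CharP.cast_eq_zero F 2
    · by_contra h2
      obtain ⟨k, rfl⟩ := hodd
      rw [pow_succ, pow_mul, pow_two, neg_mul_self_eq, one_pow, one_mul] at e
      exact neg_one_ne_one h2 e
  have hgs : NonScalar g := by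
    by_contra h
    rcases scalar_eq h with h | h
    · exact hne h
    · have h2 := hm1 (h ▸ hpow)
      exact hne (mem_center_cases.1 (h ▸ neg_one_mem_center) |>.elim id fun e => by
        have := center_eq_bot (F := F) h2
        exact Subgroup.mem_bot.1 (this ▸ (h ▸ neg_one_mem_center : g ∈ Subgroup.center SG)))
  refine ⟨hgs, ?_⟩
  have h4 : tr g * tr g = 4 := by
    by_contra h
    have hmem : g ∈ Subgroup.centralizer ({g} : Set SG) := Subgroup.mem_centralizer_singleton_iff.2 rfl
    have hd : p ∣ Nat.card (Subgroup.centralizer ({g} : Set SG)) := by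
      rw [← hg, ← Subgroup.orderOf_mk g hmem]
      exact orderOf_dvd_natCard _
    obtain ⟨n, -, hn⟩ := FiniteField.card F p
    have hq : p ∣ Fintype.card F := hn ▸ dvd_pow_self p n.ne_zero
    have := hp.one_lt
    have := Fintype.one_lt_card (α := F)
    rcases card_cent_semisimple h with e | e <;> rw [e] at hd
    · have := Nat.dvd_sub hq hd
      rw [show Fintype.card F - (Fintype.card F - 1) = 1 by omega, Nat.dvd_one] at this
      omega
    · have := Nat.dvd_sub hd hq
      rw [Nat.add_sub_cancel_left, Nat.dvd_one] at this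
      omega
  rcases mul_self_eq_mul_self_iff.1 (show tr g * tr g = 2 * 2 by linear_combination h4) with h | h
  · exact h
  · have h' : orderOf (-g) = p := orderOf_of_tr_two (nonScalar_neg hgs) (by rw [tr_neg, h, neg_neg]) p
    have e1 : (-1 : SG) ^ p = 1 := by
      have h2 := pow_orderOf_eq_one (-g)
      rw [h', neg_eq_mul, (show Commute (-1 : SG) g from
        (Subgroup.mem_center_iff.1 neg_one_mem_center g).symm).mul_pow, hpow, mul_one] at h2
      exact h2
    have := hm1 e1
    rw [h]; linear_combination -2 * this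

theorem pow_tr_eq_four {g : SG} (ht : tr g * tr g = 4) (p : ℕ) [Fact p.Prime] [CharP F p] :
    g ^ p ∈ Subgroup.center SG := by
  by_cases hg : NonScalar g
  swap
  · exact pow_mem (mem_center_iff.2 hg) p
  rcases mul_self_eq_mul_self_iff.1 (show tr g * tr g = 2 * 2 by linear_combination ht) with h | h
  · have := orderOf_of_tr_two hg h p
    rw [← this, pow_orderOf_eq_one]; exact one_mem _
  · have h' : orderOf (-g) = p := orderOf_of_tr_two (nonScalar_neg hg) (by rw [tr_neg, h, neg_neg]) p
    have e : g = -1 * -g := Subtype.ext (by simp)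
    rw [e, (show Commute (-1 : SG) (-g) from
      (Subgroup.mem_center_iff.1 neg_one_mem_center (-g)).symm).mul_pow]
    rw [show (-g) ^ p = 1 by rw [← h', pow_orderOf_eq_one]]
    rw [mul_one]
    exact pow_mem neg_one_mem_center p

end finite

/-- The companion matrix twisted by `diag(ν, 1)`. -/
def compT (t : F) (ν : Fˣ) : SG := ⟨!![0, -(ν : F); ((ν⁻¹ : Fˣ) : F), t], by simp [det_fin_two_of]⟩

theorem coe_compT (t : F) (ν : Fˣ) : ↥ₘ(compT t ν) = !![0, -(ν : F); ((ν⁻¹ : Fˣ) : F), t] := rfl

@[simp] theorem tr_compT (t : F) (ν : Fˣ) : tr (compT t ν) = t := by simp [tr, coe_compT]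

theorem nonScalar_compT (t : F) (ν : Fˣ) : NonScalar (compT t ν) := fun h => by
  have := h.2.1
  simp [coe_compT] at this

theorem isConj_compT_iff (t : F) (ν : Fˣ) : IsConj (comp t) (compT t ν) ↔ ∃ a b, N2 t a b = ν := by
  have hd : (!![(ν : F), 0; 0, 1] : M2).det = ν := by simp [det_fin_two_of]
  rw [isConj_iff_N2 (P := !![(ν : F), 0; 0, 1]) (nonScalar_comp t) (by rw [hd]; exact ν.ne_zero) (by
    ext i j
    fin_cases i <;> fin_cases j <;> simp [coe_comp, coe_compT, Matrix.mul_apply, Fin.sum_univ_two]), hd,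
    tr_comp]

theorem isSquare_of_N2_double {t a b c : F} (h2 : (2 : F) ≠ 0) (ht : t * t = 4) (h : N2 t a b = c) :
    IsSquare c :=
  ⟨a + b * (t / 2), by rw [← h]; simp only [N2]; field_simp; linear_combination -(b * b) * ht⟩

theorem not_isConj_compT {t : F} (h2 : (2 : F) ≠ 0) (ht : t * t = 4) {ν : Fˣ} (hν : ¬ IsSquare (ν : F)) :
    ¬ IsConj (comp t) (compT t ν) := fun h => by
  obtain ⟨a, b, hab⟩ := (isConj_compT_iff t ν).1 h
  exact hν (isSquare_of_N2_double h2 ht hab)

theorem isConj_comp_or [Fintype F] {g : SG} (hg : NonScalar g) {ν : Fˣ} (hν : ¬ IsSquare (ν : F)) :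
    IsConj (comp (tr g)) g ∨ IsConj (compT (tr g) ν) g := by
  obtain ⟨P, hP, hPg⟩ := exists_conjugator (nonScalar_comp (tr g)) hg (tr_comp _)
  set D : M2 := !![((ν⁻¹ : Fˣ) : F), 0; 0, 1] with hD
  have hDd : D.det = ((ν⁻¹ : Fˣ) : F) := by simp [hD, det_fin_two_of]
  have hDg : D * ↥ₘ(compT (tr g) ν) = ↥ₘ(comp (tr g)) * D := by
    ext i j
    fin_cases i <;> fin_cases j <;> simp [hD, coe_comp, coe_compT, Matrix.mul_apply, Fin.sum_univ_two]
  by_cases hs : IsSquare P.det
  · obtain ⟨a, ha⟩ := hs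
    exact Or.inl ((isConj_iff_N2 (nonScalar_comp _) hP hPg).2 ⟨a, 0, by simp [N2, ← ha]⟩)
  · obtain ⟨a, ha⟩ : IsSquare (P.det * ((ν⁻¹ : Fˣ) : F)) := by
      classical
      have h2 : ringChar F ≠ 2 := fun hc => hν (FiniteField.isSquare_of_char_two hc _)
      have hν' : ¬ IsSquare ((ν⁻¹ : Fˣ) : F) := by
        rw [Units.val_inv_eq_inv_val]
        rintro ⟨c, hc⟩
        exact hν ⟨c⁻¹, by rw [← mul_inv, ← hc, inv_inv]⟩
      have e1 := (quadraticChar_neg_one_iff_not_isSquare (F := F)).2 hs
      have e2 := (quadraticChar_neg_one_iff_not_isSquare (F := F)).2 hν'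
      have e3 : quadraticChar F (P.det * ((ν⁻¹ : Fˣ) : F)) = 1 := by rw [map_mul, e1, e2]; rfl
      exact (quadraticChar_one_iff_isSquare (mul_ne_zero hP (Units.ne_zero _))).1 e3
    refine Or.inr ((isConj_iff_N2 (nonScalar_compT _ _) (P := P * D) ?_ ?_).2 ⟨a, 0, ?_⟩)
    · rw [Matrix.det_mul, hDd]; exact mul_ne_zero hP (Units.ne_zero _)
    · rw [Matrix.mul_assoc, hDg, ← Matrix.mul_assoc, hPg, Matrix.mul_assoc]
    · rw [Matrix.det_mul, hDd, ha]; simp [N2]

theorem exists_nonsquare [Fintype F] (h2 : (2 : F) ≠ 0) : ∃ ν : Fˣ, ¬ IsSquare (ν : F) := by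
  have h : ringChar F ≠ 2 := fun hc => h2 (by
    have e : ((ringChar F : ℕ) : F) = 0 := CharP.cast_eq_zero F _
    rw [hc] at e
    exact_mod_cast e)
  obtain ⟨a, ha⟩ := FiniteField.exists_nonsquare h
  have ha0 : a ≠ 0 := fun e => ha ⟨0, by rw [e, mul_zero]⟩
  exact ⟨Units.mk0 a ha0, ha⟩

end Cfsg.Agent.SL2Class
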