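import Cfsg.Agent.SL2Class.Torus

/-!
Elements of PSL(2, F): orders and centralisers.
-/

set_option autoImplicit false

namespace Cfsg.Agent.SL2Class

open Matrix

variable {F : Type*} [Field F]

local notation "SG" => Matrix.SpecialLinearGroup (Fin 2) F
local notation "PG" => Matrix.ProjectiveSpecialLinearGroup (Fin 2) F
local notation:1024 "↥ₘ" A:1024 => ((A : Matrix.SpecialLinearGroup (Fin 2) F) : Matrix (Fin 2) (Fin 2) F)

/-- The projection to PSL(2, F). -/
def proj : SG →* PG := QuotientGroup.mk' (Subgroup.center SG)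

theorem proj_surjective : Function.Surjective (proj (F := F)) := QuotientGroup.mk'_surjective _

theorem proj_eq_one {g : SG} : proj g = 1 ↔ g ∈ Subgroup.center SG := QuotientGroup.eq_one_iff _

theorem proj_eq_iff {g h : SG} : proj g = proj h ↔ h = g ∨ h = -g := by
  rw [← inv_mul_eq_one, ← map_inv, ← map_mul, proj_eq_one, mem_center_cases, inv_mul_eq_one,
    inv_mul_eq_iff_eq_mul]
  rw [(Subgroup.mem_center_iff.1 neg_one_mem_center g), ← neg_eq_mul]
  exact ⟨fun h' => h'.imp Eq.symm id, fun h' => h'.imp Eq.symm id⟩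

theorem orderOf_proj_dvd_iff {g : SG} {k : ℕ} : orderOf (proj g) ∣ k ↔ g ^ k ∈ Subgroup.center SG := by
  rw [orderOf_dvd_iff_pow_eq_one, ← map_pow, proj_eq_one]

theorem comap_centralizer_le {g h : SG}
    (hh : h ∈ (Subgroup.centralizer ({proj g} : Set PG)).comap proj) : h * g * h⁻¹ = g ∨ h * g * h⁻¹ = -g := by
  rw [Subgroup.mem_comap, Subgroup.mem_centralizer_singleton_iff] at hh
  refine proj_eq_iff.1 ?_
  rw [map_mul, map_mul, map_inv, hh, mul_inv_cancel_right]

theorem centralizer_le_comap (g : SG) :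
    Subgroup.centralizer ({g} : Set SG) ≤ (Subgroup.centralizer ({proj g} : Set PG)).comap proj := by
  intro h hh
  rw [Subgroup.mem_comap, Subgroup.mem_centralizer_singleton_iff, ← map_mul, ← map_mul,
    Subgroup.mem_centralizer_singleton_iff.1 hh]

theorem index_centralizer_proj (g : SG) :
    ((Subgroup.centralizer ({proj g} : Set PG)).comap proj).index =
      (Subgroup.centralizer ({proj g} : Set PG)).index :=
  Subgroup.index_comap_of_surjective _ proj_surjective

/-- An element whose negative is not conjugate to it has the same class size in PSL. -/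
theorem index_proj_of_tr_ne {g : SG} (h : tr g ≠ -tr g ∨ (2 : F) = 0) :
    (Subgroup.centralizer ({proj g} : Set PG)).index = (Subgroup.centralizer ({g} : Set SG)).index := by
  rw [← index_centralizer_proj]
  congr 1
  refine le_antisymm (fun k hk => ?_) (centralizer_le_comap g)
  rw [Subgroup.mem_centralizer_singleton_iff]
  refine mul_inv_eq_iff_eq_mul.1 ?_
  rcases comap_centralizer_le hk with e | e
  · exact e
  rcases h with h | h
  · exact absurd ((tr_conj k g).symm.trans (by rw [e, tr_neg])) h
  · rw [e]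
    refine Subtype.ext ?_
    ext i j
    simp
    linear_combination -((↥ₘ g) i j) * h

theorem index_proj_trace_zero [Fintype F] {g : SG} (h2 : (2 : F) ≠ 0) (ht : tr g = 0) :
    (Subgroup.centralizer ({proj g} : Set PG)).index * 2 = (Subgroup.centralizer ({g} : Set SG)).index := by
  classical
  have h4 : tr g * tr g ≠ 4 := by
    rw [ht, mul_zero]
    exact fun e => mul_ne_zero h2 h2 (by linear_combination -e)
  have hg := nonScalar_of_sq_ne h4
  obtain ⟨w, hw⟩ := isConj_iff.1 (isConj_of_tr hg (nonScalar_neg hg) (by rw [tr_neg, ht, neg_zero]) (Or.inl h4))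
  rw [← index_centralizer_proj, ← Subgroup.relIndex_mul_index (centralizer_le_comap g), mul_comm]
  congr 1
  symm
  rw [Subgroup.relIndex, Subgroup.index_eq_two_iff]
  have hne : -g ≠ g := fun e => by
    refine hg ⟨?_, ?_, ?_⟩ <;>
      [have e' := congrFun (congrFun (congrArg (fun A : SG => ↥ₘ A) e) 0) 1;
       have e' := congrFun (congrFun (congrArg (fun A : SG => ↥ₘ A) e) 1) 0;
       have e' := congrArg (fun A : SG => (↥ₘ A) 0 0 - (↥ₘ A) 1 1) e] <;>
      simp at e'
    · exact (mul_eq_zero.1 (show (2 : F) * (↥ₘ g) 0 1 = 0 by linear_combination -e')).resolve_left h2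
    · exact (mul_eq_zero.1 (show (2 : F) * (↥ₘ g) 1 0 = 0 by linear_combination -e')).resolve_left h2
    · exact sub_eq_zero.1 ((mul_eq_zero.1 (show (2 : F) * ((↥ₘ g) 0 0 - (↥ₘ g) 1 1) = 0 by
        linear_combination -e')).resolve_left h2)
  refine ⟨⟨w, ?_⟩, fun b => ?_⟩
  · rw [Subgroup.mem_comap, Subgroup.mem_centralizer_singleton_iff]
    refine mul_inv_eq_iff_eq_mul.1 ?_
    rw [← map_inv, ← map_mul, ← map_mul, hw]
    exact (proj_eq_iff.2 (Or.inr rfl)).symm
  · simp only [Subgroup.mem_subgroupOf, Subgroup.coe_mul]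
    rcases comap_centralizer_le b.2 with e | e
    · refine Or.inr ⟨Subgroup.mem_centralizer_singleton_iff.2 (mul_inv_eq_iff_eq_mul.1 e), fun h => ?_⟩
      have h' := mul_inv_eq_iff_eq_mul.2 (Subgroup.mem_centralizer_singleton_iff.1 h)
      refine hne ?_
      calc -g = -1 * ((b : SG) * g * (b : SG)⁻¹) := by rw [e, neg_eq_mul]
        _ = (b : SG) * (-1 * g) * (b : SG)⁻¹ := by
          rw [← mul_assoc (b : SG), Subgroup.mem_center_iff.1 neg_one_mem_center (b : SG)]; group
        _ = (b : SG) * (w * g * w⁻¹) * (b : SG)⁻¹ := by rw [hw, neg_eq_mul g]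
        _ = (b : SG) * w * g * ((b : SG) * w)⁻¹ := by group
        _ = g := h'
    · refine Or.inl ⟨Subgroup.mem_centralizer_singleton_iff.2 (mul_inv_eq_iff_eq_mul.1 ?_), fun h => ?_⟩
      · calc (b : SG) * w * g * ((b : SG) * w)⁻¹ = (b : SG) * (w * g * w⁻¹) * (b : SG)⁻¹ := by group
          _ = (b : SG) * (-1 * g) * (b : SG)⁻¹ := by rw [hw, neg_eq_mul g]
          _ = -1 * ((b : SG) * g * (b : SG)⁻¹) := by
            rw [← mul_assoc (b : SG), Subgroup.mem_center_iff.1 neg_one_mem_center (b : SG)]; group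
          _ = g := by rw [e, neg_eq_mul g, ← mul_assoc, neg_mul_self_eq, one_mul]
      · exact hne (e.symm.trans (mul_inv_eq_iff_eq_mul.2 (Subgroup.mem_centralizer_singleton_iff.1 h)))

theorem orderOf_proj_dvd [Fintype F] (g : SG) (p : ℕ) [Fact p.Prime] [CharP F p] :
    orderOf (proj g) ∣ p ∨
      orderOf (proj g) ∣ (Fintype.card F - 1) / Nat.gcd 2 (Fintype.card F - 1) ∨
      orderOf (proj g) ∣ (Fintype.card F + 1) / Nat.gcd 2 (Fintype.card F - 1) := by
  by_cases ht : tr g * tr g = 4
  · exact Or.inl (orderOf_proj_dvd_iff.2 (pow_tr_eq_four ht p))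
  have key : ∀ c, Nat.card (Subgroup.centralizer ({g} : Set SG)) = c →
      (c = Fintype.card F - 1 ∨ c = Fintype.card F + 1) →
      orderOf (proj g) ∣ c / Nat.gcd 2 (Fintype.card F - 1) := by
    intro c hc hcq
    have hmem := self_mem_cent g
    have hpow : g ^ c = 1 := by
      rw [← hc]
      exact congrArg Subtype.val (pow_card_eq_one' (x := (⟨g, hmem⟩ : Subgroup.centralizer ({g} : Set SG))))
    rw [orderOf_proj_dvd_iff]
    by_cases h2 : (2 : F) = 0
    · haveI : CharP F 2 := CharTwo.of_one_ne_zero_of_two_eq_zero one_ne_zero h2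
      have := FiniteField.even_card_of_char_two (ringChar.eq F 2)
      have := Fintype.one_lt_card (α := F)
      rw [show Nat.gcd 2 (Fintype.card F - 1) = 1 from (Nat.prime_two.coprime_iff_not_dvd.2 (by omega)),
        Nat.div_one, hpow]
      exact one_mem _
    · have := card_odd_of_two_ne_zero h2
      rw [show Nat.gcd 2 (Fintype.card F - 1) = 2 from Nat.gcd_eq_left (by omega)]
      rcases sq_eq_one_cases h2 (x := g ^ (c / 2))
        (by rw [← pow_add, show c / 2 + c / 2 = c by omega, hpow]) with e | e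
      · rw [e]; exact one_mem _
      · rw [e]; exact neg_one_mem_center
  rcases card_cent_semisimple ht with e | e
  · exact Or.inr (Or.inl (key _ e (Or.inl rfl) |> fun h => by simpa using h))
  · exact Or.inr (Or.inr (key _ e (Or.inr rfl)))

theorem exists_orderOf_proj [Fintype F] {g : SG} (ht : tr g * tr g ≠ 4) {c : ℕ}
    (hc : Nat.card (Subgroup.centralizer ({g} : Set SG)) = c) (hc' : Fintype.card F % 2 = 1 → 2 ∣ c) :
    ∃ x : SG, orderOf (proj x) = c / Nat.gcd 2 (Fintype.card F - 1) := by
  haveI := isCyclic_centralizer ht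
  obtain ⟨⟨x, hx⟩, hgen⟩ := IsCyclic.exists_generator (α := Subgroup.centralizer ({g} : Set SG))
  have hord : orderOf x = c := by
    rw [← hc, ← orderOf_eq_card_of_forall_mem_zpowers hgen, Subgroup.orderOf_mk]
  refine ⟨x, ?_⟩
  by_cases h2 : (2 : F) = 0
  · haveI : CharP F 2 := CharTwo.of_one_ne_zero_of_two_eq_zero one_ne_zero h2
    have := FiniteField.even_card_of_char_two (ringChar.eq F 2)
    have := Fintype.one_lt_card (α := F)
    rw [show Nat.gcd 2 (Fintype.card F - 1) = 1 from (Nat.prime_two.coprime_iff_not_dvd.2 (by omega)),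
      Nat.div_one, ← hord]
    refine orderOf_injective proj ?_ x
    rw [injective_iff_map_eq_one]
    intro y hy
    have hy' := proj_eq_one.1 hy
    rwa [center_eq_bot h2, Subgroup.mem_bot] at hy'
  · have hodd := card_odd_of_two_ne_zero h2
    rw [show Nat.gcd 2 (Fintype.card F - 1) = 2 from Nat.gcd_eq_left (by omega)]
    obtain ⟨j, hj⟩ := hc' hodd
    have hj' : c / 2 = j := by omega
    rw [hj']
    refine Nat.dvd_antisymm (orderOf_proj_dvd_iff.2 ?_) ?_
    · rcases sq_eq_one_cases h2 (x := x ^ j)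
        (by rw [← pow_add, ← two_mul, ← hj, ← hord, pow_orderOf_eq_one]) with e | e
      · rw [e]; exact one_mem _
      · rw [e]; exact neg_one_mem_center
    · set k := orderOf (proj x)
      have h : x ^ k ∈ Subgroup.center SG := orderOf_proj_dvd_iff.1 dvd_rfl
      have h2k : x ^ (k * 2) = 1 := by
        rw [pow_mul]
        rcases mem_center_cases.1 h with e | e
        · rw [e, one_pow]
        · rw [e, pow_two, neg_mul_self_eq]
      have := orderOf_dvd_of_pow_eq_one h2k
      rw [hord, hj, mul_comm k] at this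
      exact Nat.dvd_of_mul_dvd_mul_left two_pos this

theorem exists_generator_props [Fintype F] {g : SG} (h2 : (2 : F) ≠ 0) (ht : tr g * tr g ≠ 4)
    (h6 : 5 ≤ Nat.card (Subgroup.centralizer ({g} : Set SG))) :
    ∃ x : SG, tr x * tr x ≠ 4 ∧ tr x ≠ -tr x ∧
      Nat.card (Subgroup.centralizer ({x} : Set SG)) = Nat.card (Subgroup.centralizer ({g} : Set SG)) := by
  haveI := isCyclic_centralizer ht
  have hg := nonScalar_of_sq_ne ht
  obtain ⟨⟨x, hx⟩, hgen⟩ := IsCyclic.exists_generator (α := Subgroup.centralizer ({g} : Set SG))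
  have hord : orderOf x = Nat.card (Subgroup.centralizer ({g} : Set SG)) := by
    rw [← orderOf_eq_card_of_forall_mem_zpowers hgen, Subgroup.orderOf_mk]
  have hxs : NonScalar x := fun h => by
    have : x ^ 2 = 1 := by
      rcases scalar_eq (fun h' => h' h) with e | e
      · rw [e, one_pow]
      · rw [e, pow_two, neg_mul_self_eq]
    have := Nat.le_of_dvd two_pos (orderOf_dvd_of_pow_eq_one this)
    omega
  have hc := centralizer_eq hg hx hxs
  refine ⟨x, fun h4 => ?_, fun h0 => ?_, by rw [hc]⟩
  · have e := card_cent_double h2 hxs h4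
    rw [hc] at e
    have := Fintype.one_lt_card (α := F)
    have := card_odd_of_two_ne_zero h2
    rcases card_cent_semisimple ht with e' | e' <;> omega
  · have ht0 : tr x = 0 :=
      (mul_eq_zero.1 (show (2 : F) * tr x = 0 by linear_combination h0)).resolve_left h2
    have hxx : x * x = -1 := Subtype.ext (by
      show ↥ₘ x * ↥ₘ x = ↥ₘ(-1 : SG)
      rw [g_sq, ht0, coe_neg_one]
      ext i j
      simp [lin_apply])
    have : x ^ 4 = 1 := by
      rw [show (4 : ℕ) = 2 * 2 from rfl, pow_mul, pow_two x, hxx, pow_two, neg_mul_self_eq]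
    have := Nat.le_of_dvd (by norm_num) (orderOf_dvd_of_pow_eq_one this)
    omega

end Cfsg.Agent.SL2Class
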