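import Cfsg.Agent.SL2Class.Classes

/-!
The maximal tori of SL(2, F) and their normalisers.
-/

set_option autoImplicit false

namespace Cfsg.Agent.SL2Class

open Matrix

/-- A group with an abelian subgroup `C` of index 2 inverted by an element `w` outside it, with `w * w = z`,
where `z` is the only involution of `C`, has `|C|/2 + 3` classes. -/
theorem card_conjClasses_dicyclic {N : Type*} [Group N] [Finite N] (C : Subgroup N) (hcomm : ∀ a ∈ C, ∀ b ∈ C, a * b = b * a)
    {w z : N} (hw : w ∉ C) (hall : ∀ x, x ∈ C ∨ w * x ∈ C) (hinv : ∀ c ∈ C, w * c * w⁻¹ = c⁻¹)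
    (hww : w * w = z) (hz : z ∈ C) (hz1 : z ≠ 1) (hz2 : ∀ c ∈ C, c * c = 1 → c = 1 ∨ c = z)
    (hzz : z * z = 1) {m : ℕ} (hm : Nat.card C = 2 * m) :
    Nat.card (ConjClasses N) = m + 3 ∧ Nat.card N = 4 * m := by
  classical
  haveI := Fintype.ofFinite N
  have hwinv : w⁻¹ = z * w := inv_eq_of_mul_eq_one_right (by
    rw [← mul_assoc, show w * z = z * w by rw [← hww, mul_assoc], mul_assoc, hww, hzz])
  have hout : ∀ x, x ∉ C → ∃ c ∈ C, x = w * c := fun x hx =>
    ⟨w⁻¹ * x, by rw [hwinv, mul_assoc]; exact mul_mem hz ((hall x).resolve_left hx), by group⟩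
  have hwc : ∀ c ∈ C, w * c ∉ C := fun c hc h => hw (by simpa using mul_mem h (inv_mem hc))
  let e : Bool × C → N := fun p => if p.1 then w * p.2 else p.2
  have he : Function.Bijective e := by
    constructor
    · rintro ⟨a, c⟩ ⟨b, d⟩ h
      cases a <;> cases b <;> simp [e] at h
      · simp [h]
      · exact absurd c.2 (h ▸ hwc _ d.2)
      · exact absurd d.2 (h ▸ hwc _ c.2)
      · simp [h]
    · intro x
      by_cases hx : x ∈ C
      · exact ⟨(false, ⟨x, hx⟩), rfl⟩
      · obtain ⟨c, hc, rfl⟩ := hout x hx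
        exact ⟨(true, ⟨c, hc⟩), rfl⟩
  have hN : Nat.card N = 4 * m := by
    rw [← Nat.card_eq_of_bijective e he, Nat.card_prod, hm, Nat.card_eq_fintype_card (α := Bool), Fintype.card_bool]
    ring
  refine ⟨?_, hN⟩
  have key : ∀ x : N, Nat.card {y // Commute x y} =
      if x = 1 ∨ x = z then 4 * m else if x ∈ C then 2 * m else 4 := by
    intro x
    have hcz : ∀ y, Commute z y := fun y => by
      by_cases hy : y ∈ C
      · exact hcomm _ hz _ hy
      · obtain ⟨c, hc, rfl⟩ := hout y hy
        show z * (w * c) = w * c * z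
        rw [← mul_assoc, show z * w = w * z by rw [← hww, mul_assoc], mul_assoc, hcomm _ hz _ hc, mul_assoc]
    have hwc' : ∀ c ∈ C, w * c = c⁻¹ * w := fun c hc => by rw [← hinv c hc, inv_mul_cancel_right]
    split_ifs with h1 hC
    · rw [← hN]
      refine Nat.card_congr (Equiv.subtypeUnivEquiv fun y => ?_)
      rcases h1 with rfl | rfl
      · exact Commute.one_left y
      · exact hcz y
    · rw [← hm]
      refine Nat.card_congr (Equiv.subtypeEquivRight fun y => ⟨fun hxy => ?_, fun hy => hcomm _ hC _ hy⟩)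
      by_contra hy
      obtain ⟨c, hc, rfl⟩ := hout y hy
      refine h1 (hz2 x hC ?_)
      have e2 : x * (w * c) = w * c * x := hxy
      rw [mul_assoc w, hcomm _ hc _ hC, ← mul_assoc, ← mul_assoc, hwc' x hC] at e2
      have e3 : x = x⁻¹ := mul_right_cancel (mul_right_cancel e2)
      calc x * x = x⁻¹ * x := by rw [← e3]
        _ = 1 := inv_mul_cancel x
    · obtain ⟨c, hc, rfl⟩ := hout x hC
      have hset : ∀ y, Commute (w * c) y ↔ y ∈ ({1, z, w * c, w * c * z} : Finset N) := by
        intro y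
        simp only [Finset.mem_insert, Finset.mem_singleton]
        constructor
        · intro hy
          by_cases hyC : y ∈ C
          · have e2 : w * c * y = y * (w * c) := hy
            rw [mul_assoc w, hcomm _ hc _ hyC, ← mul_assoc, hwc' y hyC, ← mul_assoc] at e2
            have e3 : y⁻¹ = y := mul_right_cancel (mul_right_cancel e2)
            rcases hz2 y hyC (by nth_rw 1 [← e3]; exact inv_mul_cancel y) with h | h
            · exact Or.inl h
            · exact Or.inr (Or.inl h)
          · obtain ⟨d, hd, rfl⟩ := hout y hyC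
            have e2 : w * c * (w * d) = w * d * (w * c) := hy
            have e3 : ∀ a b : N, a ∈ C → w * a * (w * b) = z * (a⁻¹ * b) := fun a b ha => by
              rw [show w * a * (w * b) = w * (a * w) * b by group,
                show a * w = w * a⁻¹ by rw [hwc' _ (inv_mem ha), inv_inv],
                ← mul_assoc w w, hww, mul_assoc]
            rw [e3 c d hc, e3 d c hd] at e2
            have e4 : c⁻¹ * d = d⁻¹ * c := mul_left_cancel e2
            rcases hz2 (c⁻¹ * d) (mul_mem (inv_mem hc) hd) (by nth_rw 1 [e4]; group) with h | h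
            · refine Or.inr (Or.inr (Or.inl ?_))
              rw [inv_mul_eq_one.1 h]
            · refine Or.inr (Or.inr (Or.inr ?_))
              rw [inv_mul_eq_iff_eq_mul.1 h, ← mul_assoc]
        · rintro (rfl | rfl | rfl | rfl)
          · exact Commute.one_right _
          · exact (hcz _).symm
          · exact Commute.refl _
          · exact (Commute.refl _).mul_right (hcz _).symm
      rw [Nat.card_congr (Equiv.subtypeEquivRight hset), Nat.card_eq_fintype_card, Fintype.card_coe]
      have n1 : w * c ∉ C := hwc c hc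
      have n2 : w * c * z ∉ C := by rw [mul_assoc]; exact hwc _ (mul_mem hc hz)
      have n3 : w * c ≠ w * c * z := fun h => hz1 (mul_eq_left.1 h.symm)
      rw [Finset.card_insert_of_notMem, Finset.card_insert_of_notMem, Finset.card_insert_of_notMem,
        Finset.card_singleton]
      · simpa using n3
      · simp only [Finset.mem_insert, Finset.mem_singleton, not_or]
        exact ⟨fun h => n1 (h ▸ hz), fun h => n2 (h ▸ hz)⟩
      · simp only [Finset.mem_insert, Finset.mem_singleton, not_or]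
        exact ⟨fun h => hz1 h.symm, fun h => n1 (h ▸ one_mem _), fun h => n2 (h ▸ one_mem _)⟩
  have hsum : Nat.card {p : N × N // Commute p.1 p.2} = ∑ x : N, Nat.card {y // Commute x y} := by
    rw [Nat.card_congr (Equiv.subtypeProdEquivSigmaSubtype Commute), Nat.card_sigma]
  rw [card_comm_eq_card_conjClasses_mul_card, hN] at hsum
  have hm0 : 0 < m := by
    have := Nat.card_pos (α := C)
    omega
  have hs : ∑ x : N, Nat.card {y // Commute x y} = 4 * m * (m + 3) := by
    rw [Finset.sum_congr rfl fun x _ => key x, Finset.sum_ite, Finset.sum_ite, Finset.sum_const,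
      Finset.sum_const, Finset.sum_const]
    have c1 : (Finset.univ.filter fun x : N => x = 1 ∨ x = z).card = 2 := by
      rw [show (Finset.univ.filter fun x : N => x = 1 ∨ x = z) = {1, z} by ext; simp]
      exact Finset.card_pair (Ne.symm hz1)
    have hC' : (Finset.univ.filter fun x : N => x ∈ C).card = 2 * m := by
      rw [← hm, Nat.card_eq_fintype_card, Fintype.card_subtype]
    have c2 : ((Finset.univ.filter fun x : N => ¬ (x = 1 ∨ x = z)).filter fun x => x ∈ C).card = 2 * m - 2 := by
      rw [Finset.filter_filter,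
        show (Finset.univ.filter fun x : N => ¬ (x = 1 ∨ x = z) ∧ x ∈ C) =
          (Finset.univ.filter fun x : N => x ∈ C) \ {1, z} by ext x; simp; tauto,
        Finset.card_sdiff_of_subset, hC', Finset.card_pair (Ne.symm hz1)]
      intro x hx
      simp at hx
      rcases hx with rfl | rfl <;> simp [one_mem, hz]
    have c3 : ((Finset.univ.filter fun x : N => ¬ (x = 1 ∨ x = z)).filter fun x => ¬ x ∈ C).card = 2 * m := by
      rw [Finset.filter_filter,
        show (Finset.univ.filter fun x : N => ¬ (x = 1 ∨ x = z) ∧ ¬ x ∈ C) =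
          (Finset.univ.filter fun x : N => x ∈ C)ᶜ by
            ext x
            simp only [Finset.mem_filter, Finset.mem_univ, true_and, Finset.mem_compl]
            refine ⟨fun h => h.2, fun h => ⟨?_, h⟩⟩
            rintro (rfl | rfl)
            · exact h (one_mem _)
            · exact h hz,
        Finset.card_compl, hC', ← Nat.card_eq_fintype_card, hN]
      omega
    rw [c1, c2, c3]
    simp only [smul_eq_mul]
    obtain ⟨k, rfl⟩ : ∃ k, m = k + 1 := ⟨m - 1, by omega⟩
    rw [show 2 * (k + 1) - 2 = 2 * k by omega]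
    ring
  rw [hs] at hsum
  exact Nat.eq_of_mul_eq_mul_right (show 0 < 4 * m by omega) (hsum.trans (by ring))

variable {F : Type*} [Field F]

local notation "SG" => Matrix.SpecialLinearGroup (Fin 2) F
local notation "M2" => Matrix (Fin 2) (Fin 2) F
local notation:1024 "↥ₘ" A:1024 => ((A : Matrix.SpecialLinearGroup (Fin 2) F) : Matrix (Fin 2) (Fin 2) F)

theorem tr_of_lin {x g : SG} {a b : F} (h : ↥ₘ x = lin g a b) : tr x = 2 * a + b * tr g := by
  rw [tr, h]; simp [lin_apply, tr]; ring

theorem tr_inv (g : SG) : tr g⁻¹ = tr g := by rw [tr_of_lin (inv_eq g)]; ring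

theorem nonScalar_inv {g : SG} (hg : NonScalar g) : NonScalar g⁻¹ := by
  intro h
  refine mem_center_iff.1 ?_ hg
  simpa using inv_mem (mem_center_iff.2 (fun h' => h' h))

theorem self_mem_cent (g : SG) : g ∈ Subgroup.centralizer ({g} : Set SG) :=
  Subgroup.mem_centralizer_singleton_iff.2 rfl

theorem eq_or_inv_of_tr {g x : SG} (ht : tr g * tr g ≠ 4)
    (hx : x ∈ Subgroup.centralizer ({g} : Set SG)) (hxt : tr x = tr g) : x = g ∨ x = g⁻¹ := by
  obtain ⟨a, b, e⟩ := (mem_centralizer (nonScalar_of_sq_ne ht)).1 hx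
  have h1 : 2 * a + b * tr g = tr g := (tr_of_lin e).symm.trans hxt
  have hN : N2 (tr g) a b = 1 := by rw [← det_lin, ← e]; exact x.2
  simp only [N2] at hN
  have hfix : (a = 0 ∧ b = 1) ∨ (a = tr g ∧ b = -1) := by
    by_cases h2 : (2 : F) = 0
    · have ht0 : tr g ≠ 0 := fun h => ht (by rw [h]; linear_combination -2 * h2)
      have hb : b = 1 := mul_right_cancel₀ ht0 (by linear_combination h1 - a * h2)
      subst hb
      have : a * (a + tr g) = 0 := by linear_combination hN
      rcases mul_eq_zero.1 this with h | h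
      · exact Or.inl ⟨h, rfl⟩
      · exact Or.inr ⟨by linear_combination h - tr g * h2, by linear_combination h2⟩
    · have h3 : (4 - tr g * tr g) * (b * b - 1) = 0 := by
        linear_combination 4 * hN - (2 * a + b * tr g + tr g) * h1
      have hb := (mul_eq_zero.1 h3).resolve_left (sub_ne_zero.2 (Ne.symm ht))
      rcases mul_self_eq_one_iff.1 (sub_eq_zero.1 hb) with rfl | rfl
      · exact Or.inl ⟨mul_left_cancel₀ h2 (by linear_combination h1), rfl⟩
      · exact Or.inr ⟨mul_left_cancel₀ h2 (by linear_combination h1), rfl⟩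
  rcases hfix with ⟨rfl, rfl⟩ | ⟨rfl, rfl⟩
  · exact Or.inl (Subtype.ext (e.trans (lin_self g)))
  · exact Or.inr (Subtype.ext (e.trans (inv_eq g).symm))

theorem exists_inverting [Fintype F] {g : SG} (ht : tr g * tr g ≠ 4) : ∃ w : SG, w * g * w⁻¹ = g⁻¹ :=
  isConj_iff.1 (isConj_of_tr (nonScalar_of_sq_ne ht) (nonScalar_inv (nonScalar_of_sq_ne ht))
    (tr_inv g).symm (Or.inl ht))

theorem conj_centralizer {g w : SG} (hg : NonScalar g) (hw : w * g * w⁻¹ = g⁻¹) {x : SG}
    (hx : x ∈ Subgroup.centralizer ({g} : Set SG)) : w * x * w⁻¹ = x⁻¹ := by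
  obtain ⟨a, b, e⟩ := (mem_centralizer hg).1 hx
  have e2 : ↥ₘ w * ↥ₘ g * ↥ₘ w⁻¹ = lin g (tr g) (-1) := by
    rw [← inv_eq, ← hw]; rfl
  have hww : ↥ₘ w * ↥ₘ w⁻¹ = 1 := by
    rw [← Matrix.SpecialLinearGroup.coe_mul, mul_inv_cancel]; rfl
  have e3 : ↥ₘ(w * x * w⁻¹) = lin g (a + tr g * b) (-b) := by
    show ↥ₘ w * ↥ₘ x * ↥ₘ w⁻¹ = _
    rw [e, lin, mul_add, add_mul, Matrix.mul_smul, Matrix.mul_smul, Matrix.smul_mul, Matrix.smul_mul,
      Matrix.mul_one, hww, e2]
    simp only [lin]
    module
  refine eq_inv_of_mul_eq_one_left (Subtype.ext ?_)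
  show ↥ₘ(w * x * w⁻¹) * ↥ₘ x = 1
  have hN : N2 (tr g) a b = 1 := by rw [← det_lin, ← e]; exact x.2
  rw [e3, e, lin_mul, show ((a + tr g * b) * a - -b * b) = N2 (tr g) a b by simp only [N2]; ring, hN,
    show ((a + tr g * b) * b + -b * a + tr g * -b * b) = 0 by ring, lin_one]

theorem mem_normalizer_cases {g w h : SG} (ht : tr g * tr g ≠ 4) (hw : w * g * w⁻¹ = g⁻¹)
    (hh : h ∈ Subgroup.normalizer (Subgroup.centralizer ({g} : Set SG) : Set SG)) :
    h ∈ Subgroup.centralizer ({g} : Set SG) ∨ w * h ∈ Subgroup.centralizer ({g} : Set SG) := by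
  rcases eq_or_inv_of_tr ht ((Subgroup.mem_normalizer_iff.1 hh g).1 (self_mem_cent g)) (tr_conj h g) with e | e
  · left
    rw [Subgroup.mem_centralizer_singleton_iff]
    exact mul_inv_eq_iff_eq_mul.1 e
  · right
    rw [Subgroup.mem_centralizer_singleton_iff]
    refine mul_inv_eq_iff_eq_mul.1 ?_
    calc w * h * g * (w * h)⁻¹ = w * (h * g * h⁻¹) * w⁻¹ := by group
      _ = (w * g * w⁻¹)⁻¹ := by rw [e]; group
      _ = g := by rw [hw, inv_inv]

theorem mem_normalizer_of_inverting {g w : SG} (hg : NonScalar g) (hw : w * g * w⁻¹ = g⁻¹) :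
    w ∈ Subgroup.normalizer (Subgroup.centralizer ({g} : Set SG) : Set SG) := by
  rw [Subgroup.mem_normalizer_iff]
  intro x
  constructor
  · intro hx
    rw [conj_centralizer hg hw hx]
    exact inv_mem hx
  · intro hx
    have h1 := conj_centralizer hg hw hx
    have h2 : x = w⁻¹ * (w * x * w⁻¹) * w := by group
    have h3 : w * (w * x * w⁻¹)⁻¹ * w⁻¹ = w * x * w⁻¹ := by
      rw [conj_centralizer hg hw (inv_mem hx), inv_inv]
    have h4 : x = (w * x * w⁻¹)⁻¹ := (mul_left_cancel (mul_right_cancel h3)).symm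
    rw [h4]
    exact inv_mem hx

theorem inverting_notMem {g w : SG} (ht : tr g * tr g ≠ 4) (hw : w * g * w⁻¹ = g⁻¹) :
    w ∉ Subgroup.centralizer ({g} : Set SG) := fun h => by
  rw [Subgroup.mem_centralizer_singleton_iff.1 h, mul_inv_cancel_right] at hw
  have e : lin g (tr g) (-1) = lin g 0 1 := by rw [← inv_eq, ← hw, lin_self]
  obtain ⟨e1, -⟩ := lin_ext (nonScalar_of_sq_ne ht) e
  have e2 := congrArg (fun A : SG => ↥ₘ(A * g)) hw.symm
  simp only [inv_mul_cancel] at e2
  have h00 := congrFun (congrFun (e2.trans ((Matrix.SpecialLinearGroup.coe_mul g g).trans (g_sq g))) 0) 0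
  simp [lin_apply, e1] at h00
  exact ht (by rw [e1]; linear_combination -2 * h00)

theorem card_normalizer [Fintype F] {g : SG} (ht : tr g * tr g ≠ 4) :
    Nat.card (Subgroup.normalizer (Subgroup.centralizer ({g} : Set SG) : Set SG)) =
      2 * Nat.card (Subgroup.centralizer ({g} : Set SG)) := by
  classical
  have hg := nonScalar_of_sq_ne ht
  obtain ⟨w, hw⟩ := exists_inverting ht
  set C := Subgroup.centralizer ({g} : Set SG)
  set N := Subgroup.normalizer (C : Set SG)
  have hwN : w ∈ N := mem_normalizer_of_inverting hg hw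
  have hCN : C ≤ N := Subgroup.le_normalizer
  let e : Bool × C → N := fun p => if p.1 then ⟨w⁻¹ * p.2, N.mul_mem (N.inv_mem hwN) (hCN p.2.2)⟩
    else ⟨p.2, hCN p.2.2⟩
  have he : Function.Bijective e := by
    constructor
    · rintro ⟨a, c⟩ ⟨b, d⟩ h
      have h' := congrArg Subtype.val h
      cases a <;> cases b <;> simp [e] at h'
      · simp [h']
      · exact absurd (C.inv_mem_iff.1 (by simpa [h'] using C.mul_mem c.2 (C.inv_mem d.2))) (inverting_notMem ht hw)
      · exact absurd (C.inv_mem_iff.1 (by simpa [← h'] using C.mul_mem d.2 (C.inv_mem c.2))) (inverting_notMem ht hw)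
      · simp [h']
    · rintro ⟨h, hh⟩
      rcases mem_normalizer_cases ht hw hh with h1 | h1
      · exact ⟨(false, ⟨h, h1⟩), rfl⟩
      · exact ⟨(true, ⟨w * h, h1⟩), Subtype.ext (by simp [e])⟩
  rw [← Nat.card_eq_of_bijective e he, Nat.card_prod, Nat.card_eq_fintype_card (α := Bool), Fintype.card_bool]

theorem sq_of_not_mem [Fintype F] {g h : SG} (h2 : (2 : F) ≠ 0) (ht : tr g * tr g ≠ 4)
    (hh : h ∈ Subgroup.normalizer (Subgroup.centralizer ({g} : Set SG) : Set SG))
    (hn : h ∉ Subgroup.centralizer ({g} : Set SG)) : h * h = -1 := by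
  have hg := nonScalar_of_sq_ne ht
  rcases eq_or_inv_of_tr ht ((Subgroup.mem_normalizer_iff.1 hh g).1 (self_mem_cent g)) (tr_conj h g) with e | e
  · exact absurd (Subgroup.mem_centralizer_singleton_iff.2 (mul_inv_eq_iff_eq_mul.1 e)) hn
  have hm : h * h ∈ Subgroup.centralizer ({g} : Set SG) := by
    rw [Subgroup.mem_centralizer_singleton_iff]
    refine mul_inv_eq_iff_eq_mul.1 ?_
    calc h * h * g * (h * h)⁻¹ = h * (h * g * h⁻¹) * h⁻¹ := by group
      _ = (h * g * h⁻¹)⁻¹ := by nth_rw 1 [e]; group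
      _ = g := by rw [e, inv_inv]
  have e2 : h * (h * h) * h⁻¹ = (h * h)⁻¹ := conj_centralizer hg e hm
  rw [show h * (h * h) * h⁻¹ = h * h by group] at e2
  have e3 : (h * h) * (h * h) = 1 := by nth_rw 1 [e2]; exact inv_mul_cancel _
  have hsc : ¬ NonScalar (h * h) := by
    intro hns
    have e4 := g_sq (h * h)
    rw [← Matrix.SpecialLinearGroup.coe_mul, e3, Matrix.SpecialLinearGroup.coe_one, ← lin_one (h * h)] at e4
    obtain ⟨e5, -⟩ := lin_ext hns e4
    exact h2 (by linear_combination e5)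
  rcases scalar_eq hsc with e4 | e4
  · exfalso
    have hhs : ¬ NonScalar h := by
      intro hns
      have e6 := g_sq h
      rw [← Matrix.SpecialLinearGroup.coe_mul, e4, Matrix.SpecialLinearGroup.coe_one, ← lin_one h] at e6
      obtain ⟨e5, -⟩ := lin_ext hns e6
      exact h2 (by linear_combination e5)
    exact hn (Subgroup.mem_centralizer_singleton_iff.2 (Subgroup.mem_center_iff.1 (mem_center_iff.2 hhs) g).symm)
  · exact e4

theorem sq_eq_one_cases {x : SG} (h2 : (2 : F) ≠ 0) (h : x * x = 1) : x = 1 ∨ x = -1 := by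
  refine scalar_eq fun hns => ?_
  have e6 := g_sq x
  rw [← Matrix.SpecialLinearGroup.coe_mul, h, Matrix.SpecialLinearGroup.coe_one, ← lin_one x] at e6
  obtain ⟨e5, -⟩ := lin_ext hns e6
  exact h2 (by linear_combination e5)

/-- The normaliser of a torus of order `2m` has `m + 3` classes. -/
theorem card_classes_normalizer [Fintype F] {g : SG} (h2 : (2 : F) ≠ 0) (ht : tr g * tr g ≠ 4) {m : ℕ}
    (hm : Nat.card (Subgroup.centralizer ({g} : Set SG)) = 2 * m) :
    Nat.card (ConjClasses (Subgroup.normalizer (Subgroup.centralizer ({g} : Set SG) : Set SG))) = m + 3 := by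
  have hg := nonScalar_of_sq_ne ht
  obtain ⟨w, hw⟩ := exists_inverting ht
  set C := Subgroup.centralizer ({g} : Set SG) with hC
  set N := Subgroup.normalizer (C : Set SG) with hN
  have hwN : w ∈ N := mem_normalizer_of_inverting hg hw
  have hzC : (-1 : SG) ∈ C :=
    Subgroup.mem_centralizer_singleton_iff.2 (Subgroup.mem_center_iff.1 neg_one_mem_center g).symm
  have hzN : (-1 : SG) ∈ N := Subgroup.le_normalizer hzC
  refine (card_conjClasses_dicyclic (C.subgroupOf N) (w := ⟨w, hwN⟩) (z := ⟨-1, hzN⟩)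
    (fun a ha b hb => Subtype.ext (centralizer_comm hg ha hb)) (inverting_notMem ht hw)
    (fun x => mem_normalizer_cases ht hw x.2) (fun c hc => Subtype.ext (conj_centralizer hg hw hc))
    (Subtype.ext (sq_of_not_mem h2 ht hwN (inverting_notMem ht hw))) hzC
    (fun e => neg_one_ne_one h2 (congrArg Subtype.val e)) (fun c _ e => ?_)
    (Subtype.ext neg_mul_self_eq) (m := m) ?_).1
  · rcases sq_eq_one_cases h2 (congrArg Subtype.val e) with h | h
    · exact Or.inl (Subtype.ext h)
    · exact Or.inr (Subtype.ext h)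
  · rw [Nat.card_congr (Subgroup.subgroupOfEquivOfLe Subgroup.le_normalizer).toEquiv, hm]

theorem noRoot_iff_noEigen {g : SG} :
    (∀ (c : F) (v : Fin 2 → F), v ≠ 0 → (↥ₘ g).mulVec v ≠ c • v) ↔ NoRoot (tr g) := by
  constructor
  · intro h r hr
    have hdet : (↥ₘ g - r • 1).det = 0 := by
      rw [det_fin_two]
      simp
      have htr : tr g = (↥ₘ g) 0 0 + (↥ₘ g) 1 1 := rfl
      linear_combination det_eq g + hr + r * htr
    obtain ⟨v, hv, hv'⟩ := Matrix.exists_mulVec_eq_zero_iff.2 hdet
    rw [Matrix.sub_mulVec, Matrix.smul_mulVec, Matrix.one_mulVec, sub_eq_zero] at hv'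
    exact h r v hv hv'
  · intro h c v hv e
    refine h c ?_
    have hdet : (↥ₘ g - c • 1).det = 0 := Matrix.exists_mulVec_eq_zero_iff.1
      ⟨v, hv, by rw [Matrix.sub_mulVec, Matrix.smul_mulVec, Matrix.one_mulVec, e, sub_self]⟩
    rw [det_fin_two] at hdet
    simp at hdet
    have htr : tr g = (↥ₘ g) 0 0 + (↥ₘ g) 1 1 := rfl
    linear_combination hdet - det_eq g - c * htr

/-- A torus contains elements of every trace of the same kind. -/
theorem exists_tr_mem [Fintype F] {g : SG} (h2 : (2 : F) ≠ 0) (hg : NoRoot (tr g)) {t : F} (ht : NoRoot t) :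
    ∃ x ∈ Subgroup.centralizer ({g} : Set SG), tr x = t ∧ NonScalar x := by
  classical
  have hD := (noRoot_iff_not_isSquare h2).1 hg
  have hD' := (noRoot_iff_not_isSquare h2).1 ht
  have hD0 : tr g * tr g - 4 ≠ 0 := fun e => hD ⟨0, by rw [e, mul_zero]⟩
  obtain ⟨s, hs⟩ : IsSquare ((t * t - 4) * (tr g * tr g - 4)) := by
    have e1 := (quadraticChar_neg_one_iff_not_isSquare (F := F)).2 hD
    have e2 := (quadraticChar_neg_one_iff_not_isSquare (F := F)).2 hD'
    have e3 : quadraticChar F ((t * t - 4) * (tr g * tr g - 4)) = 1 := by rw [map_mul, e1, e2]; rfl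
    exact (quadraticChar_one_iff_isSquare (mul_ne_zero (fun e => hD' ⟨0, by rw [e, mul_zero]⟩) hD0)).1 e3
  set b := s / (tr g * tr g - 4) with hb
  set a := (t - b * tr g) / 2 with ha
  have hN : N2 (tr g) a b = 1 := by
    refine mul_left_cancel₀ (mul_ne_zero h2 h2) ?_
    have h1 : 2 * a + b * tr g = t := by rw [ha]; field_simp; ring
    have h3 : b * (tr g * tr g - 4) = s := by rw [hb, div_mul_cancel₀ _ hD0]
    have h5 : b * b * (tr g * tr g - 4) = t * t - 4 := by
      refine mul_right_cancel₀ hD0 ?_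
      linear_combination (b * (tr g * tr g - 4) + s) * h3 - hs
    simp only [N2]
    linear_combination (2 * a + b * tr g + t) * h1 - h5
  have e : tr (cen g ⟨(a, b), hN⟩) = t := by
    rw [tr_of_lin (cen_coe g ⟨(a, b), hN⟩)]
    simp only [ha]
    field_simp
    ring
  exact ⟨cen g ⟨(a, b), hN⟩, (mem_centralizer (nonScalar_of_sq_ne (sq_ne_four_of_noRoot h2 hg))).2 ⟨a, b, rfl⟩,
    e, nonScalar_of_sq_ne (by rw [e]; exact sq_ne_four_of_noRoot h2 ht)⟩

theorem exists_elliptic [Fintype F] (h2 : (2 : F) ≠ 0) :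
    ∃ g : SG, NoRoot (tr g) ∧ tr g * tr g ≠ 4 := by
  obtain ⟨t, ht⟩ := exists_noRoot (F := F)
  exact ⟨comp t, by rwa [tr_comp], by rw [tr_comp]; exact sq_ne_four_of_noRoot h2 ht⟩

end Cfsg.Agent.SL2Class
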