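import Cfsg.Agent.S2431
import Cfsg.Agent.Classical.SL2Gen
import Cfsg.Agent.SL2Class.PSL

/-!
Sylow subgroups of SL(2, F) all of whose elements lie in other Sylow subgroups.
-/

set_option autoImplicit false

namespace Cfsg.Agent.SL2Class

open Matrix

/-- A Sylow `p`-subgroup all of whose elements of `p`-power order are in other Sylow `p`-subgroups. -/
def Red (G : Type*) [Group G] (p : ℕ) : Prop :=
  ∃ Q : Sylow p G, ∀ x : G, (∃ k : ℕ, orderOf x = p ^ k) → ∃ P : Sylow p G, P ≠ Q ∧ x ∈ P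

theorem orderOf_pow_of_mem {G : Type*} [Group G] {p : ℕ} [Fact p.Prime] {H : Subgroup G} (hH : IsPGroup p H)
    {x : G} (hx : x ∈ H) : ∃ k : ℕ, orderOf x = p ^ k := by
  obtain ⟨k, hk⟩ := hH ⟨x, hx⟩
  obtain ⟨j, -, hj⟩ := (Nat.dvd_prime_pow Fact.out).1 (orderOf_dvd_of_pow_eq_one (congrArg Subtype.val hk))
  exact ⟨j, hj⟩

theorem not_red {G : Type*} [Group G] [Finite G] {p : ℕ} [Fact p.Prime] (Q₀ : Sylow p G) (x : G) (hx : x ∈ Q₀)
    (h : ∀ P : Sylow p G, x ∈ P → P = Q₀) : ¬ Red G p := by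
  rintro ⟨Q, hQ⟩
  obtain ⟨a, rfl⟩ := MulAction.exists_smul_eq G Q₀ Q
  obtain ⟨P, hPne, hP⟩ := hQ (a * x * a⁻¹) (by
    obtain ⟨k, hk⟩ := orderOf_pow_of_mem Q₀.isPGroup' hx
    exact ⟨k, (orderOf_injective (MulAut.conj a).toMonoidHom (MulAut.conj a).injective x).trans hk⟩)
  refine hPne ?_
  have hxP : x ∈ a⁻¹ • P := ⟨a * x * a⁻¹, hP, by simp [mul_assoc]⟩
  rw [← h _ hxP, smul_inv_smul]

theorem not_red_of_cyclic {G : Type*} [Group G] [Finite G] {p : ℕ} [Fact p.Prime] (Q₀ : Sylow p G)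
    (hc : IsCyclic (Q₀ : Subgroup G)) : ¬ Red G p := by
  obtain ⟨⟨x, hx⟩, hgen⟩ := hc.exists_generator
  refine not_red Q₀ x hx fun P hP => Sylow.ext (Subgroup.eq_of_le_of_card_ge ?_ ?_).symm
  · intro y hy
    obtain ⟨k, hk⟩ := Subgroup.mem_zpowers_iff.1 (hgen ⟨y, hy⟩)
    have e : x ^ k = y := congrArg Subtype.val hk
    exact e ▸ Subgroup.zpow_mem _ hP k
  · rw [P.card_eq_multiplicity, Q₀.card_eq_multiplicity]

theorem red_iff_of_surjective {G H : Type*} [Group G] [Finite G] [Group H] {p : ℕ} [Fact p.Prime] (f : G →* H)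
    (hf : Function.Surjective f)
    (hlift : ∀ (P : Sylow p G) (x : G), (∃ k : ℕ, x ^ p ^ k = 1) → f x ∈ (P : Subgroup G).map f → x ∈ P) :
    Red H p ↔ Red G p := by
  haveI : Finite H := Finite.of_surjective f hf
  have hinj : ∀ P Q : Sylow p G, P.mapSurjective hf = Q.mapSurjective hf → P = Q := by
    intro P Q e
    refine Sylow.ext (Subgroup.eq_of_le_of_card_ge (fun x hx => hlift Q x ?_ ?_) (by
      rw [P.card_eq_multiplicity, Q.card_eq_multiplicity]))
    · obtain ⟨k, hk⟩ := P.isPGroup' ⟨x, hx⟩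
      exact ⟨k, congrArg Subtype.val hk⟩
    · rw [← Sylow.coe_mapSurjective hf Q, ← e, Sylow.coe_mapSurjective hf P]
      exact ⟨x, hx, rfl⟩
  have hsurj : ∀ R : Sylow p H, ∃ P : Sylow p G, P.mapSurjective hf = R := by
    intro R
    obtain ⟨a, ha⟩ := MulAction.exists_smul_eq H ((default : Sylow p G).mapSurjective hf) R
    obtain ⟨g, rfl⟩ := hf a
    refine ⟨g • (default : Sylow p G), ?_⟩
    rw [← ha]
    refine Sylow.ext (le_antisymm ?_ ?_) <;> rw [Sylow.coe_mapSurjective]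
    · rintro _ ⟨_, ⟨y, hy, rfl⟩, rfl⟩
      exact ⟨f y, ⟨y, hy, rfl⟩, by simp⟩
    · rintro _ ⟨y, hy, rfl⟩
      have hy' : y ∈ (((default : Sylow p G).mapSurjective hf : Sylow p H) : Subgroup H) := hy
      rw [Sylow.coe_mapSurjective] at hy'
      obtain ⟨z, hz, rfl⟩ := hy'
      exact ⟨g * z * g⁻¹, ⟨z, hz, by simp⟩, by simp⟩
  constructor
  · rintro ⟨R, hR⟩
    obtain ⟨Q, rfl⟩ := hsurj R
    refine ⟨Q, fun x ⟨k, hk⟩ => ?_⟩
    obtain ⟨R', hne, hR'⟩ := hR (f x) (by
      obtain ⟨j, -, hj⟩ := (Nat.dvd_prime_pow Fact.out).1 (hk ▸ orderOf_map_dvd f x)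
      exact ⟨j, hj⟩)
    obtain ⟨P, rfl⟩ := hsurj R'
    refine ⟨P, fun e => hne (e ▸ rfl), hlift P x ⟨k, by rw [← hk, pow_orderOf_eq_one]⟩ ?_⟩
    rw [← Sylow.coe_mapSurjective hf P]
    exact hR'
  · rintro ⟨Q, hQ⟩
    refine ⟨Q.mapSurjective hf, fun h ⟨k, hk⟩ => ?_⟩
    obtain ⟨g, rfl⟩ := hf h
    obtain ⟨z, w, hzw, -, -, hc, ⟨j, hzj⟩, r, hr, hwr⟩ := GroupSub.exists_parts p g
    have hw : f w = 1 := by
      have e : f w = (f z)⁻¹ * f g := by rw [hzw, map_mul, inv_mul_cancel_left]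
      have hcc : Commute (f z)⁻¹ (f g) := by
        rw [hzw, map_mul]
        exact ((Commute.refl (f z)).mul_right (hc.map f)).inv_left
      refine orderOf_eq_one_iff.1 (Nat.eq_one_of_dvd_coprimes (Nat.Coprime.pow_left (j + k) hr) ?_
        (orderOf_dvd_of_pow_eq_one (by rw [← map_pow, hwr, map_one])))
      refine orderOf_dvd_of_pow_eq_one ?_
      rw [e, hcc.mul_pow, inv_pow, ← map_pow, ← map_pow, pow_add, pow_mul, hzj, one_pow, map_one, inv_one, one_mul,
        mul_comm, pow_mul, map_pow, map_pow, show f g ^ p ^ k = 1 by rw [← hk, pow_orderOf_eq_one], one_pow]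
    have hgz : f g = f z := by rw [hzw, map_mul, hw, mul_one]
    obtain ⟨i, -, hi⟩ := (Nat.dvd_prime_pow Fact.out).1 (orderOf_dvd_of_pow_eq_one hzj)
    obtain ⟨P, hne, hP⟩ := hQ z ⟨i, hi⟩
    refine ⟨P.mapSurjective hf, fun e => hne (hinj P Q e), ?_⟩
    show f g ∈ ((P.mapSurjective hf : Sylow p H) : Subgroup H)
    rw [Sylow.coe_mapSurjective]
    exact ⟨z, hP, hgz.symm⟩

variable {F : Type*} [Field F] [Fintype F]

local notation "SG" => Matrix.SpecialLinearGroup (Fin 2) F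

theorem not_red_char (p : ℕ) [Fact p.Prime] [CharP F p] : ¬ Red SG p := by
  classical
  obtain ⟨P₀, hP₀⟩ := Classical.exists_sylow_rootSL (F := F) p
  set x := Classical.rootHomSL (F := F) (Multiplicative.ofAdd 1)
  refine not_red P₀ x (show x ∈ (P₀ : Subgroup SG) by rw [hP₀]; exact ⟨_, rfl⟩) fun P hP => ?_
  by_contra hne
  have hle : ∀ R : Sylow p SG, x ∈ R → (R : Subgroup SG) ≤ Subgroup.centralizer {x} := by
    intro R hR y hy
    rw [Subgroup.mem_centralizer_singleton_iff]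
    obtain ⟨a, ha⟩ := Classical.sylow_sl2_conj (F := F) p R
    have hR' : x ∈ (R : Subgroup SG) := hR
    rw [ha] at hy hR'
    obtain ⟨_, ⟨c, rfl⟩, rfl⟩ := hy
    obtain ⟨_, ⟨d, rfl⟩, hd⟩ := hR'
    rw [← hd, ← map_mul, ← map_mul, ← map_mul, ← map_mul, mul_comm c d]
  have htop := Classical.sylow_sl2_sup (F := F) p P P₀ hne
  have hcen : x ∈ Subgroup.center SG := by
    rw [Subgroup.mem_center_iff]
    intro y
    have hy : y ∈ Subgroup.centralizer ({x} : Set SG) :=
      sup_le (hle P hP) (hle P₀ (show x ∈ (P₀ : Subgroup SG) by rw [hP₀]; exact ⟨_, rfl⟩)) (htop ▸ Subgroup.mem_top y)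
    exact Subgroup.mem_centralizer_singleton_iff.1 hy
  refine mem_center_iff.1 hcen fun h => ?_
  have h1 : ((x : SG) : Matrix (Fin 2) (Fin 2) F) 0 1 = 1 := by rw [Classical.rootHomSL_coe]; rfl
  rw [h.1] at h1
  exact zero_ne_one h1

theorem exists_cyclic_sylow {ℓ : ℕ} [Fact ℓ.Prime] {g : SG} (ht : tr g * tr g ≠ 4) {c r : ℕ}
    (hc : Nat.card (Subgroup.centralizer ({g} : Set SG)) = c) (hG : Nat.card SG = c * r) (hr : ¬ ℓ ∣ r) :
    ∃ P : Sylow ℓ SG, IsCyclic (P : Subgroup SG) := by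
  classical
  haveI := isCyclic_centralizer ht
  set C := Subgroup.centralizer ({g} : Set SG)
  let R : Sylow ℓ C := default
  have hc0 : c ≠ 0 := hc ▸ (Nat.card_pos (α := C)).ne'
  have hr0 : r ≠ 0 := fun e => hr (e ▸ dvd_zero ℓ)
  have hcard : Nat.card ((R : Subgroup C).map C.subtype) = ℓ ^ (Nat.card SG).factorization ℓ := by
    rw [Subgroup.card_map_of_injective C.subtype_injective, Sylow.card_eq_multiplicity, hc, hG,
      Nat.factorization_mul hc0 hr0, Finsupp.add_apply, Nat.factorization_eq_zero_of_not_dvd hr, add_zero]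
  refine ⟨Sylow.ofCard _ hcard, ?_⟩
  rw [Sylow.coe_ofCard]
  exact isCyclic_of_surjective ((R : Subgroup C).equivMapOfInjective _ C.subtype_injective).toMonoidHom
    (MulEquiv.surjective _)

theorem not_red_odd {ℓ : ℕ} [hℓ : Fact ℓ.Prime] (hℓ2 : ℓ ≠ 2) : ¬ Red SG ℓ := by
  classical
  obtain ⟨p, hp⟩ := CharP.exists F
  haveI := Fact.mk (CharP.char_is_prime F p)
  by_cases hpl : ℓ = p
  · subst hpl; exact not_red_char ℓ
  by_cases hdvd : ℓ ∣ Nat.card SG
  swap
  · refine not_red_of_cyclic (default : Sylow ℓ SG) ?_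
    have h := (default : Sylow ℓ SG).card_eq_multiplicity
    rw [Nat.factorization_eq_zero_of_not_dvd hdvd, pow_zero] at h
    rw [Subgroup.card_eq_one.1 h]
    infer_instance
  obtain ⟨n, -, hn⟩ := FiniteField.card F p
  have hq := Fintype.one_lt_card (α := F)
  set q := Fintype.card F with hqdef
  have hq2 : q ^ 2 - 1 = (q - 1) * (q + 1) := by
    obtain ⟨k, hk⟩ : ∃ k, q = k + 1 := ⟨q - 1, by omega⟩
    rw [hk, Nat.add_sub_cancel]
    have : (k + 1) ^ 2 = k * (k + 1 + 1) + 1 := by ring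
    omega
  have hnq : ¬ ℓ ∣ q := fun h => hpl
    ((Nat.prime_dvd_prime_iff_eq hℓ.out Fact.out).1 (hℓ.out.dvd_of_dvd_pow (hn ▸ h)))
  have h3 := hℓ.out.two_le
  have hboth : ¬ (ℓ ∣ q - 1 ∧ ℓ ∣ q + 1) := fun ⟨h1, h2⟩ => by
    have := Nat.le_of_dvd two_pos (by simpa [show q + 1 - (q - 1) = 2 by omega] using Nat.dvd_sub h2 h1)
    omega
  rw [card_sl, ← hqdef, hq2, hℓ.out.dvd_mul, hℓ.out.dvd_mul] at hdvd
  rcases hdvd with h | h | h
  · exact absurd h hnq
  · have hq4 : 4 ≤ q := by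
      by_contra h4
      have := Nat.le_of_dvd (by omega) h
      omega
    obtain ⟨t, r, hr, ht⟩ := exists_split (F := F) hq4
    obtain ⟨P, hP⟩ := exists_cyclic_sylow (ℓ := ℓ) (g := comp t) (r := q * (q + 1)) (by rwa [tr_comp])
      (card_cent_split (r := r) (by rwa [tr_comp]) (by rwa [tr_comp])) (by rw [card_sl, ← hqdef, hq2]; ring)
      (by rw [hℓ.out.dvd_mul]; rintro (h' | h'); exacts [hnq h', hboth ⟨h, h'⟩])
    exact not_red_of_cyclic P hP
  · obtain ⟨t, ht⟩ := exists_noRoot (F := F)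
    have ht4 : tr (comp t) * tr (comp t) ≠ 4 := by
      rw [tr_comp]
      by_cases h2 : (2 : F) = 0
      · intro e
        refine ht 1 ?_
        linear_combination h2 - ((sq_eq_four_iff_even h2 t).1 e)
      · exact sq_ne_four_of_noRoot h2 ht
    obtain ⟨P, hP⟩ := exists_cyclic_sylow (ℓ := ℓ) (g := comp t) (r := q * (q - 1)) ht4
      (card_cent_noRoot (by rwa [tr_comp]) (nonScalar_comp t)) (by rw [card_sl, ← hqdef, hq2]; ring)
      (by rw [hℓ.out.dvd_mul]; rintro (h' | h'); exacts [hnq h', hboth ⟨h', h⟩])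
    exact not_red_of_cyclic P hP

theorem exists_sylow_S0 (h2 : (2 : F) ≠ 0) {g w : SG} (ht : tr g * tr g ≠ 4) (hw : w * g * w⁻¹ = g⁻¹)
    (hww : w * w = -1) {c r : ℕ} (hc : Nat.card (Subgroup.centralizer ({g} : Set SG)) = c)
    (hG : Nat.card SG = c * r) (hr4 : r % 4 = 2) :
    ∃ P : Sylow 2 SG, (P : Subgroup SG) = S2431.S0 g (nonScalar_of_sq_ne ht) w hw hww ∧
      Nat.card (S2431.C2 g (nonScalar_of_sq_ne ht)) = 2 ^ c.factorization 2 := by
  classical
  haveI : Fact (Nat.Prime 2) := ⟨Nat.prime_two⟩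
  set hg := nonScalar_of_sq_ne ht
  set C := Subgroup.centralizer ({g} : Set SG) with hC
  set D := S2431.C2 g hg
  set S := S2431.S0 g hg w hw hww
  haveI : IsMulCommutative C := ⟨⟨fun a b => Subtype.ext (centralizer_comm hg a.2 b.2)⟩⟩
  let R : Sylow 2 C := default
  have hDR : D.subgroupOf C = (R : Subgroup C) := by
    refine R.is_maximal' ?_ ?_
    · rintro ⟨x, hx⟩
      obtain ⟨k, hk⟩ := hx.2
      exact ⟨k, Subtype.ext (Subtype.ext (by simpa using hk))⟩
    · intro x hx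
      obtain ⟨k, hk⟩ := R.isPGroup' ⟨x, hx⟩
      exact ⟨x.2, k, by simpa using congrArg (fun y : (R : Subgroup C) => ((y : C) : SG)) hk⟩
  have hcardD : Nat.card D = 2 ^ c.factorization 2 := by
    rw [← Nat.card_congr (Subgroup.subgroupOfEquivOfLe (show D ≤ C from fun x hx => hx.1)).toEquiv, hDR,
      Sylow.card_eq_multiplicity, hc]
  have hc0 : c ≠ 0 := hc ▸ (Nat.card_pos (α := C)).ne'
  have hne : ∀ a b : D, (a : SG) ≠ w⁻¹ * b := fun a b h => inverting_notMem ht hw (C.inv_mem_iff.1 (by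
    have := C.mul_mem a.2.1 (C.inv_mem b.2.1)
    rwa [h, mul_inv_cancel_right] at this))
  let e : Bool × D → S := fun p => if p.1 then ⟨w⁻¹ * p.2, Or.inr (by rw [mul_inv_cancel_left]; exact p.2.2)⟩
    else ⟨p.2, Or.inl p.2.2⟩
  have he : Function.Bijective e := by
    constructor
    · rintro ⟨a, x⟩ ⟨b, y⟩ h
      have h' := congrArg Subtype.val h
      cases a <;> cases b <;> simp [e] at h'
      · simp [h']
      · exact absurd h' (hne x y)
      · exact absurd h'.symm (hne y x)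
      · simp [h']
    · rintro ⟨x, hx | hx⟩
      · exact ⟨(false, ⟨x, hx⟩), rfl⟩
      · exact ⟨(true, ⟨w * x, hx⟩), Subtype.ext (by simp [e])⟩
  have hr1 : r.factorization 2 = 1 := by
    obtain ⟨j, hj⟩ : ∃ j, r = 2 * (2 * j + 1) := ⟨r / 4, by omega⟩
    rw [hj, Nat.factorization_mul two_ne_zero (by omega), Finsupp.add_apply, Nat.prime_two.factorization_self,
      Nat.factorization_eq_zero_of_not_dvd (show ¬ 2 ∣ 2 * j + 1 by omega)]
  have hcardS : Nat.card S = 2 ^ (Nat.card SG).factorization 2 := by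
    rw [← Nat.card_eq_of_bijective e he, Nat.card_prod, Nat.card_eq_fintype_card (α := Bool), Fintype.card_bool,
      hcardD, hG, Nat.factorization_mul hc0 (by omega), Finsupp.add_apply, hr1, pow_succ, mul_comm]
  exact ⟨Sylow.ofCard S hcardS, rfl, hcardD⟩

theorem eq_of_four_dvd {q c d : ℕ} (hc : 4 ∣ c) (hd : 4 ∣ d) (hcq : c = q - 1 ∨ c = q + 1)
    (hdq : d = q - 1 ∨ d = q + 1) : d = c := by omega

/-- The main case: `p = 2` and `q` odd. -/
theorem red_two_iff (h2 : (2 : F) ≠ 0) :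
    Red SG 2 ↔ ((¬ ∃ k : ℕ, Fintype.card F + 1 = 2 ^ k) ∧ ¬ ∃ k : ℕ, Fintype.card F = 2 ^ k + 1) := by
  classical
  haveI : Fact (Nat.Prime 2) := ⟨Nat.prime_two⟩
  have hodd := card_odd_of_two_ne_zero h2
  obtain ⟨g, ht, c, r, hc, hG, h4c, hr4, -, -⟩ := S2431.exists_torus (F := F) h2
  have hq := Fintype.one_lt_card (α := F)
  have hcq : c = Fintype.card F - 1 ∨ c = Fintype.card F + 1 :=
    (card_cent_semisimple ht).imp (fun h => hc.symm.trans h) (fun h => hc.symm.trans h)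
  have hform : (∃ k, c = 2 ^ k) ↔
      ((∃ k : ℕ, Fintype.card F + 1 = 2 ^ k) ∨ ∃ k : ℕ, Fintype.card F = 2 ^ k + 1) := by
    have hpow : ∀ k : ℕ, 2 ^ k = 1 ∨ 2 ^ k = 2 ∨ 4 ∣ 2 ^ k := by
      intro k
      rcases k with _ | _ | k
      · exact Or.inl rfl
      · exact Or.inr (Or.inl rfl)
      · exact Or.inr (Or.inr ⟨2 ^ k, by ring⟩)
    constructor
    · rintro ⟨k, hk⟩
      rcases hcq with h | h
      · exact Or.inr ⟨k, by omega⟩
      · exact Or.inl ⟨k, by omega⟩
    · rintro (⟨k, hk⟩ | ⟨k, hk⟩)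
      · refine ⟨k, ?_⟩
        rcases hcq with h | h
        · have := hpow k; omega
        · omega
      · rcases hcq with h | h
        · exact ⟨k, by omega⟩
        · exact ⟨2, by have := hpow k; omega⟩
  rw [← not_or, ← hform]
  constructor
  · rintro hred ⟨k, hk⟩
    obtain ⟨w, hw⟩ := exists_inverting ht
    have hww := sq_of_not_mem h2 ht (mem_normalizer_of_inverting (nonScalar_of_sq_ne ht) hw) (inverting_notMem ht hw)
    obtain ⟨Q, hQ, hD⟩ := exists_sylow_S0 h2 ht hw hww hc hG hr4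
    have hg := nonScalar_of_sq_ne ht
    haveI := isCyclic_centralizer ht
    obtain ⟨⟨x, hx⟩, hgen⟩ := IsCyclic.exists_generator (α := Subgroup.centralizer ({g} : Set SG))
    have hord : orderOf x = c := by
      rw [← hc, ← orderOf_eq_card_of_forall_mem_zpowers hgen, Subgroup.orderOf_mk]
    have hx2 : x ∈ S2431.C2 g hg := ⟨hx, k, by rw [← hk, ← hord, pow_orderOf_eq_one]⟩
    have hc0 : c ≠ 0 := hc ▸ (Nat.card_pos (α := Subgroup.centralizer ({g} : Set SG))).ne'
    have hxs : NonScalar x := fun h => by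
      have h' : x ^ 2 = 1 := by
        rcases scalar_eq (fun h' => h' h) with e | e
        · rw [e, one_pow]
        · rw [e, pow_two, neg_mul_self_eq]
      have := Nat.le_of_dvd two_pos (orderOf_dvd_of_pow_eq_one h')
      have := Nat.le_of_dvd (Nat.pos_of_ne_zero hc0) h4c
      omega
    refine not_red Q x (show x ∈ (Q : Subgroup SG) by rw [hQ]; exact Or.inl hx2) (fun P hP => ?_) hred
    refine Sylow.ext (Subgroup.eq_of_le_of_card_ge ?_ (by rw [P.card_eq_multiplicity, Q.card_eq_multiplicity]))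
    have hCP : Subgroup.centralizer ({g} : Set SG) ≤ (P : Subgroup SG) := fun y hy => by
      obtain ⟨j, hj⟩ := Subgroup.mem_zpowers_iff.1 (hgen ⟨y, hy⟩)
      have e : x ^ j = y := congrArg Subtype.val hj
      exact e ▸ Subgroup.zpow_mem _ hP j
    have hidx : ((Subgroup.centralizer ({g} : Set SG)).subgroupOf (P : Subgroup SG)).index = 2 := by
      have h1 := Subgroup.card_mul_index ((Subgroup.centralizer ({g} : Set SG)).subgroupOf (P : Subgroup SG))
      rw [Nat.card_congr (Subgroup.subgroupOfEquivOfLe hCP).toEquiv, hc, P.card_eq_multiplicity, hG,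
        Nat.factorization_mul hc0 (by omega), Finsupp.add_apply, pow_add] at h1
      obtain ⟨j, hj⟩ : ∃ j, r = 2 * (2 * j + 1) := ⟨r / 4, by omega⟩
      have hr1 : r.factorization 2 = 1 := by
        rw [hj, Nat.factorization_mul two_ne_zero (by omega), Finsupp.add_apply, Nat.prime_two.factorization_self,
          Nat.factorization_eq_zero_of_not_dvd (show ¬ 2 ∣ 2 * j + 1 by omega)]
      rw [hr1, show 2 ^ c.factorization 2 = c by rw [hk, Nat.prime_two.factorization_pow, Finsupp.single_eq_same],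
        pow_one] at h1
      exact Nat.eq_of_mul_eq_mul_left (Nat.pos_of_ne_zero hc0) h1
    have hn := (Subgroup.normal_subgroupOf_iff_le_normalizer hCP).1 (Subgroup.normal_of_index_eq_two hidx)
    intro y hy
    rw [hQ]
    have hC2 : ∀ z ∈ Subgroup.centralizer ({g} : Set SG), z ∈ S2431.C2 g hg := fun z hz =>
      ⟨hz, k, congrArg Subtype.val (show (⟨z, hz⟩ : Subgroup.centralizer ({g} : Set SG)) ^ 2 ^ k = 1 by
        rw [← hk, ← hc]; exact pow_card_eq_one')⟩
    exact (mem_normalizer_cases ht hw (hn hy)).imp (hC2 y) (hC2 (w * y))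
  · intro hno
    have key : ∀ x : SG, NonScalar x → (∃ k : ℕ, x ^ 2 ^ k = 1) →
        ∃ P P' : Sylow 2 SG, P ≠ P' ∧ x ∈ P ∧ x ∈ P' := by
      intro x hxs hx2
      obtain ⟨k, hk⟩ := hx2
      obtain ⟨p, hp⟩ := CharP.exists F
      haveI := Fact.mk (CharP.char_is_prime F p)
      have hp2 : p ≠ 2 := fun e => h2 (by subst e; exact_mod_cast CharP.cast_eq_zero F 2)
      have hx4 : tr x * tr x ≠ 4 := fun e => by
        have hxp := pow_tr_eq_four e p
        have hco : Nat.Coprime p (2 ^ k) := ((Nat.coprime_primes Fact.out Nat.prime_two).2 hp2).pow_right k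
        obtain ⟨a, b, hab⟩ : ∃ a b : ℤ, (p : ℤ) * a + ((2 ^ k : ℕ) : ℤ) * b = 1 :=
          ⟨Nat.gcdA p (2 ^ k), Nat.gcdB p (2 ^ k), by rw [← Nat.gcd_eq_gcd_ab, hco]; rfl⟩
        have : x ∈ Subgroup.center SG := by
          rw [← zpow_one x, ← hab, _root_.zpow_add, _root_.zpow_mul, _root_.zpow_mul, zpow_natCast, zpow_natCast, hk,
            _root_.one_zpow, mul_one]
          exact Subgroup.zpow_mem _ hxp a
        exact mem_center_iff.1 this hxs
      have hd4 : 4 ∣ Nat.card (Subgroup.centralizer ({x} : Set SG)) := by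
        have hd : orderOf x ∣ Nat.card (Subgroup.centralizer ({x} : Set SG)) := by
          rw [← Subgroup.orderOf_mk x (self_mem_cent x)]; exact orderOf_dvd_natCard _
        obtain ⟨j, -, hj⟩ := (Nat.dvd_prime_pow Nat.prime_two).1 (orderOf_dvd_of_pow_eq_one hk)
        refine Dvd.dvd.trans ?_ hd
        rcases j with _ | _ | j
        · exact absurd (orderOf_eq_one_iff.1 hj) (ne_one_of_nonScalar hxs)
        · exfalso
          have hxx : x * x = 1 := by
            have h' := pow_orderOf_eq_one x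
            rwa [hj, show (2 : ℕ) ^ (0 + 1) = 2 from rfl, pow_two] at h'
          exact mem_center_iff.1 (mem_center_cases.2 (sq_eq_one_cases h2 hxx)) hxs
        · exact ⟨2 ^ j, by rw [hj]; ring⟩
      have hcx : Nat.card (Subgroup.centralizer ({x} : Set SG)) = c := by
        have h1 := card_cent_semisimple hx4
        exact eq_of_four_dvd h4c hd4 hcq h1
      obtain ⟨w, hw⟩ := exists_inverting hx4
      have hww := sq_of_not_mem h2 hx4 (mem_normalizer_of_inverting hxs hw) (inverting_notMem hx4 hw)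
      obtain ⟨ℓ, hℓ, hℓ2, hℓd⟩ : ∃ ℓ : ℕ, ℓ.Prime ∧ ℓ ≠ 2 ∧ ℓ ∣ c := by
        by_contra h
        push Not at h
        refine hno ⟨c.primeFactorsList.length, Nat.eq_prime_pow_of_unique_prime_dvd (fun h0 => by rw [h0] at hc; exact (Nat.card_pos (α := Subgroup.centralizer ({g} : Set SG))).ne' hc) fun {d} hd hdc => ?_⟩
        by_contra hd2
        exact h d hd hd2 hdc
      haveI := Fact.mk hℓ
      obtain ⟨⟨u, hu⟩, huo⟩ := exists_prime_orderOf_dvd_card' ℓ (hcx.symm ▸ hℓd : ℓ ∣ Nat.card (Subgroup.centralizer ({x} : Set SG)))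
      rw [Subgroup.orderOf_mk] at huo
      have hw' : u * w * x * (u * w)⁻¹ = x⁻¹ := by
        rw [show u * w * x * (u * w)⁻¹ = u * (w * x * w⁻¹) * u⁻¹ by group, hw,
          centralizer_comm hxs hu (inv_mem (self_mem_cent x)), mul_inv_cancel_right]
      have hww' := sq_of_not_mem h2 hx4 (mem_normalizer_of_inverting hxs hw') (inverting_notMem hx4 hw')
      obtain ⟨P, hP, -⟩ := exists_sylow_S0 h2 hx4 hw hww hcx hG hr4
      obtain ⟨P', hP', -⟩ := exists_sylow_S0 h2 hx4 hw' hww' hcx hG hr4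
      have hxC : x ∈ S2431.C2 x (nonScalar_of_sq_ne hx4) := ⟨self_mem_cent x, k, hk⟩
      refine ⟨P, P', fun e => ?_, show x ∈ (P : Subgroup SG) by rw [hP]; exact Or.inl hxC,
        show x ∈ (P' : Subgroup SG) by rw [hP']; exact Or.inl hxC⟩
      have h1 : u * w ∈ (P : Subgroup SG) := by rw [e, hP']; exact S2431.w_mem
      rw [hP] at h1
      rcases h1 with h | h
      · exact inverting_notMem hx4 hw' h.1
      · have e2 : w * (u * w) = u⁻¹ * -1 := by
          rw [← hww, show w * (u * w) = w * u * w⁻¹ * (w * w) by group, conj_centralizer hxs hw hu]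
        rw [e2] at h
        have h' := Subgroup.inv_mem _ (Subgroup.mul_mem _ h
          (Subgroup.inv_mem _ (S2431.neg_one_mem_C2 (nonScalar_of_sq_ne hx4))))
        rw [mul_inv_cancel_right, inv_inv] at h'
        obtain ⟨-, j, hj⟩ := h'
        have hd := orderOf_dvd_of_pow_eq_one hj
        rw [huo] at hd
        exact hℓ2 ((Nat.prime_dvd_prime_iff_eq hℓ Nat.prime_two).1 (hℓ.dvd_of_dvd_pow hd))
    refine ⟨default, fun x hx => ?_⟩
    obtain ⟨k, hk⟩ := hx
    by_cases hxs : NonScalar x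
    · obtain ⟨P, P', hne, hP, hP'⟩ := key x hxs ⟨k, by rw [← hk, pow_orderOf_eq_one]⟩
      by_cases h : P = default
      · exact ⟨P', fun e => hne (h.trans e.symm), hP'⟩
      · exact ⟨P, h, hP⟩
    · have hz : ∀ P : Sylow 2 SG, x ∈ P := by
        intro P
        have hp : IsPGroup 2 (Subgroup.zpowers x) :=
          IsPGroup.of_card (n := k) (by rw [Nat.card_zpowers, hk])
        haveI : (Subgroup.zpowers x).Normal := ⟨fun n hn y => by
          have hnc : n ∈ Subgroup.center SG :=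
            Subgroup.zpowers_le.2 (mem_center_iff.2 hxs) hn
          rwa [Subgroup.mem_center_iff.1 hnc y, mul_inv_cancel_right]⟩
        exact hp.le_sylow_of_normal P (Subgroup.mem_zpowers x)
      obtain ⟨y, hys, hy2⟩ : ∃ y : SG, NonScalar y ∧ ∃ j : ℕ, y ^ 2 ^ j = 1 := by
        refine ⟨(comp (0 : F)), ?_, 2, ?_⟩
        · exact fun h => by simpa [coe_comp] using h.2.1
        · refine Subtype.ext ?_
          rw [show (2 : ℕ) ^ 2 = 2 * 2 from rfl, pow_mul, pow_two, pow_two,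
            Matrix.SpecialLinearGroup.coe_mul, Matrix.SpecialLinearGroup.coe_mul]
          ext a b
          fin_cases a <;> fin_cases b <;> simp [coe_comp, Matrix.mul_apply, Fin.sum_univ_two]
      obtain ⟨P, P', hne, -, -⟩ := key y hys hy2
      by_cases h : P = default
      · exact ⟨P', fun e => hne (h.trans e.symm), hz P'⟩
      · exact ⟨P, h, hz P⟩

/-- The classification of the pairs `(q, p)` with a redundant Sylow subgroup. -/
theorem red_iff (p : ℕ) [Fact p.Prime] :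
    Red SG p ↔ (p = 2 ∧ (¬ ∃ k : ℕ, Fintype.card F + 1 = 2 ^ k) ∧ (¬ ∃ k : ℕ, Fintype.card F = 2 ^ k) ∧
      ¬ ∃ k : ℕ, Fintype.card F = 2 ^ k + 1) := by
  by_cases hp2 : p = 2
  swap
  · exact iff_of_false (not_red_odd hp2) (fun h => hp2 h.1)
  subst hp2
  by_cases h2 : (2 : F) = 0
  · haveI : CharP F 2 := CharTwo.of_one_ne_zero_of_two_eq_zero one_ne_zero h2
    obtain ⟨n, -, hn⟩ := FiniteField.card F 2
    exact iff_of_false (not_red_char 2) (fun h => h.2.2.1 ⟨n, hn⟩)
  · rw [red_two_iff h2]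
    have hne : ¬ ∃ k : ℕ, Fintype.card F = 2 ^ k := by
      rintro ⟨k, hk⟩
      have := card_odd_of_two_ne_zero h2
      have := Fintype.one_lt_card (α := F)
      rcases k with _ | k
      · rw [pow_zero] at hk; omega
      · rw [pow_succ] at hk; omega
    exact ⟨fun h => ⟨rfl, h.1, hne, h.2⟩, fun h => ⟨h.2.1, h.2.2.2⟩⟩

end Cfsg.Agent.SL2Class
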