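import Mathlib

/-!
The binary quadratic form `a² + t a b + b²` over a finite field: the values it takes and the number of
its points of value 1.
-/

set_option autoImplicit false

namespace Cfsg.Agent.SL2Class

variable {F : Type*} [Field F]

/-- The norm form of `X² - tX + 1`. -/
def N2 (t a b : F) : F := a * a + t * a * b + b * b

/-- The points of value 1. -/
abbrev N2One (t : F) : Type _ := {p : F × F // N2 t p.1 p.2 = 1}

/-- `X² - tX + 1` has no root. -/
def NoRoot (t : F) : Prop := ∀ r : F, r * r - t * r + 1 ≠ 0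

theorem N2_mul (t a b c d : F) :
    N2 t (a * c - b * d) (a * d + b * c + t * b * d) = N2 t a b * N2 t c d := by
  simp only [N2]; ring

theorem N2_zero (t : F) : N2 t 0 0 = 0 := by simp [N2]

theorem N2_ne_zero {t : F} (ht : NoRoot t) {a b : F} (h : ¬ (a = 0 ∧ b = 0)) : N2 t a b ≠ 0 := by
  intro e
  by_cases hb : b = 0
  · subst hb
    have ha : a * a = 0 := by simpa [N2] using e
    exact h ⟨mul_self_eq_zero.1 ha, rfl⟩
  · refine ht (-a / b) ?_
    simp only [N2] at e
    field_simp
    linear_combination e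

theorem N2_split {t r : F} (hr : r * r - t * r + 1 = 0) (a b : F) :
    N2 t a b = (a + b * r) * (a + b * (t - r)) := by
  simp only [N2]; linear_combination b * b * hr

theorem mul_root {t r : F} (hr : r * r - t * r + 1 = 0) : r * (t - r) = 1 := by linear_combination -hr

theorem roots_ne {t r : F} (hr : r * r - t * r + 1 = 0) (ht : t * t ≠ 4) : r ≠ t - r := by
  intro e
  have ht' : t = r + r := by linear_combination -e
  subst ht'
  exact ht (by linear_combination -4 * hr)

theorem noRoot_or_root (t : F) : NoRoot t ∨ ∃ r : F, r * r - t * r + 1 = 0 := by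
  by_cases h : ∃ r : F, r * r - t * r + 1 = 0
  · exact Or.inr h
  · exact Or.inl fun r hr => h ⟨r, hr⟩

theorem sq_ne_four_of_noRoot {t : F} (h2 : (2 : F) ≠ 0) (ht : NoRoot t) : t * t ≠ 4 := fun e =>
  ht (t / 2) (by field_simp; linear_combination -e)

theorem noRoot_iff_not_isSquare {t : F} (h2 : (2 : F) ≠ 0) : NoRoot t ↔ ¬ IsSquare (t * t - 4) := by
  constructor
  · rintro h ⟨c, hc⟩
    exact h ((t + c) / 2) (by field_simp; linear_combination -hc)
  · intro h r hr
    exact h ⟨2 * r - t, by linear_combination -4 * hr⟩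

variable [Fintype F]

theorem exists_sq_eq_of_two_eq_zero (h2 : (2 : F) = 0) (c : F) : ∃ a : F, a * a = c := by
  haveI : CharP F 2 := CharTwo.of_one_ne_zero_of_two_eq_zero one_ne_zero h2
  obtain ⟨a, ha⟩ := FiniteField.isSquare_of_char_two (ringChar.eq F 2) c
  exact ⟨a, ha.symm⟩

theorem card_odd_of_two_ne_zero (h2 : (2 : F) ≠ 0) : Fintype.card F % 2 = 1 := by
  by_contra h
  have hchar : ringChar F = 2 := (FiniteField.even_card_iff_char_two).2 (by omega)
  refine h2 ?_
  have e : ((ringChar F : ℕ) : F) = 0 := CharP.cast_eq_zero F _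
  rw [hchar] at e
  exact_mod_cast e

/-- When the discriminant is not zero, or in characteristic 2, the form takes every value. -/
theorem exists_N2_eq {t : F} (h : t * t ≠ 4 ∨ (2 : F) = 0) (c : F) : ∃ a b : F, N2 t a b = c := by
  by_cases h2 : (2 : F) = 0
  · obtain ⟨a, ha⟩ := exists_sq_eq_of_two_eq_zero h2 c
    exact ⟨a, 0, by simp [N2, ha]⟩
  have ht : t * t ≠ 4 := h.resolve_right h2
  have hD : (4 : F) - t * t ≠ 0 := sub_ne_zero.2 (Ne.symm ht)
  obtain ⟨x, b, hxb⟩ := FiniteField.exists_root_sum_quadratic (f := (Polynomial.X : Polynomial F) ^ 2)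
    (g := Polynomial.C (4 - t * t) * Polynomial.X ^ 2 + Polynomial.C (-(4 * c)))
    (Polynomial.degree_X_pow 2) (by
      rw [Polynomial.degree_add_C (by rw [Polynomial.degree_C_mul_X_pow 2 hD]; decide),
        Polynomial.degree_C_mul_X_pow 2 hD]
      rfl) (card_odd_of_two_ne_zero h2)
  simp at hxb
  refine ⟨(x - t * b) / 2, b, ?_⟩
  simp only [N2]
  field_simp
  linear_combination hxb

theorem card_root_points {t r : F} (hr : r * r - t * r + 1 = 0) (ht : t * t ≠ 4) :
    Nat.card (N2One t) = Fintype.card F - 1 := by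
  classical
  have hd : r - (t - r) ≠ 0 := sub_ne_zero.2 (roots_ne hr ht)
  have e : N2One t ≃ Fˣ :=
    { toFun := fun p => Units.mk0 (p.1.1 + p.1.2 * r)
        (left_ne_zero_of_mul_eq_one ((N2_split hr p.1.1 p.1.2).symm.trans p.2))
      invFun := fun u => ⟨((u : F) - ((u : F) - (u⁻¹ : Fˣ)) / (r - (t - r)) * r,
          ((u : F) - (u⁻¹ : Fˣ)) / (r - (t - r))), by
        rw [N2_split hr]
        have : ((u : F) - ((u : F) - (u⁻¹ : Fˣ)) / (r - (t - r)) * r +
            ((u : F) - (u⁻¹ : Fˣ)) / (r - (t - r)) * (t - r)) = (u⁻¹ : Fˣ) := by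
          field_simp; ring
        rw [this, sub_add_cancel, ← Units.val_mul, mul_inv_cancel, Units.val_one]⟩
      left_inv := by
        rintro ⟨⟨a, b⟩, hp⟩
        have hinv : ((Units.mk0 (a + b * r)
            (left_ne_zero_of_mul_eq_one ((N2_split hr a b).symm.trans hp)))⁻¹ : Fˣ) = (a + b * (t - r) : F) := by
          rw [Units.val_inv_eq_inv_val, Units.val_mk0]
          exact inv_eq_of_mul_eq_one_right ((N2_split hr a b).symm.trans hp)
        refine Subtype.ext (Prod.ext ?_ ?_) <;> simp only [hinv, Units.val_mk0] <;> field_simp <;> ring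
      right_inv := fun u => Units.ext (by simp) }
  rw [Nat.card_congr e, Nat.card_units, Nat.card_eq_fintype_card]

theorem card_noRoot_points {t : F} (ht : NoRoot t) : Nat.card (N2One t) = Fintype.card F + 1 := by
  classical
  have hval : ∀ c : F, ∃ p : F × F, N2 t p.1 p.2 = c := fun c => by
    by_cases h2 : (2 : F) = 0
    · obtain ⟨a, b, h⟩ := exists_N2_eq (t := t) (Or.inr h2) c; exact ⟨(a, b), h⟩
    · obtain ⟨a, b, h⟩ := exists_N2_eq (Or.inl (sq_ne_four_of_noRoot h2 ht)) c; exact ⟨(a, b), h⟩
  choose p hp using hval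
  let m : F × F → F × F → F × F := fun x y =>
    (x.1 * y.1 - x.2 * y.2, x.1 * y.2 + x.2 * y.1 + t * x.2 * y.2)
  have hm : ∀ x y, N2 t (m x y).1 (m x y).2 = N2 t x.1 x.2 * N2 t y.1 y.2 := fun x y => N2_mul t _ _ _ _
  have hz : ∀ x : F × F, x ≠ 0 → N2 t x.1 x.2 ≠ 0 := fun x hx =>
    N2_ne_zero ht fun h => hx (Prod.ext h.1 h.2)
  let f : Fˣ × N2One t → {x : F × F // x ≠ 0} := fun cs =>
    ⟨m (p cs.1) cs.2.1, fun e => by
      have h := hm (p cs.1) cs.2.1
      rw [e, hp, cs.2.2, mul_one] at h
      exact cs.1.ne_zero (h.symm.trans (N2_zero t))⟩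
  have hcancel : ∀ x y : F × F,
      m (x.1 + t * x.2, -x.2) (m x y) = (N2 t x.1 x.2 * y.1, N2 t x.1 x.2 * y.2) := by
    intro x y
    simp only [m, N2, Prod.mk.injEq]
    constructor <;> ring
  have hbij : Function.Bijective f := by
    constructor
    · rintro ⟨c, s⟩ ⟨d, u⟩ h
      have h' : m (p c) s.1 = m (p d) u.1 := congrArg Subtype.val h
      have hc := hm (p c) s.1
      rw [h', hm, hp, hp, s.2, u.2, mul_one, mul_one] at hc
      obtain rfl : c = d := Units.ext hc.symm
      refine Prod.ext rfl (Subtype.ext ?_)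
      have e := congrArg (m ((p c).1 + t * (p c).2, -(p c).2)) h'
      rw [hcancel, hcancel, hp] at e
      exact Prod.ext (mul_left_cancel₀ c.ne_zero (congrArg Prod.fst e))
        (mul_left_cancel₀ c.ne_zero (congrArg Prod.snd e))
    · rintro ⟨x, hx⟩
      set c := N2 t x.1 x.2 with hc
      have hc0 : c ≠ 0 := hz x hx
      set y := m ((p c).1 + t * (p c).2, -(p c).2) x with hy
      have hNy : N2 t y.1 y.2 = c * c := by
        rw [hy, hm, show N2 t ((p c).1 + t * (p c).2) (-(p c).2) = N2 t (p c).1 (p c).2 by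
          simp only [N2]; ring, hp]
      refine ⟨(Units.mk0 c hc0, ⟨(y.1 / c, y.2 / c), ?_⟩), Subtype.ext ?_⟩
      · show N2 t (y.1 / c) (y.2 / c) = 1
        rw [show N2 t (y.1 / c) (y.2 / c) = N2 t y.1 y.2 / (c * c) by simp only [N2]; field_simp,
          hNy, div_self (mul_ne_zero hc0 hc0)]
      · have hpc : (p c).1 * (p c).1 + t * (p c).1 * (p c).2 + (p c).2 * (p c).2 = c := hp c
        show m (p c) (y.1 / c, y.2 / c) = x
        rw [hy]
        simp only [m]
        refine Prod.ext ?_ ?_ <;> field_simp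
        · linear_combination x.1 * hpc
        · linear_combination x.2 * hpc
  have h := Nat.card_eq_of_bijective f hbij
  rw [Nat.card_prod, Nat.card_units, Nat.card_eq_fintype_card (α := {x : F × F // x ≠ 0}),
    Fintype.card_subtype_compl, Fintype.card_subtype_eq, Fintype.card_prod, Nat.card_eq_fintype_card (α := F)] at h
  obtain ⟨k, hk⟩ : ∃ k, Fintype.card F = k + 2 := ⟨Fintype.card F - 2, by
    have := Fintype.one_lt_card (α := F); omega⟩
  rw [hk] at h ⊢
  have e : (k + 2) * (k + 2) - 1 = (k + 1) * (k + 3) := by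
    have : (k + 2) * (k + 2) = (k + 1) * (k + 3) + 1 := by ring
    omega
  rw [e, show k + 2 - 1 = k + 1 by omega] at h
  exact Nat.eq_of_mul_eq_mul_left (Nat.succ_pos k) h

theorem card_double_odd {t : F} (h2 : (2 : F) ≠ 0) (ht : t * t = 4) :
    Nat.card (N2One t) = 2 * Fintype.card F := by
  classical
  have ht0 : t ≠ 0 := fun e => by
    rw [e, mul_zero] at ht
    exact mul_ne_zero h2 h2 (by linear_combination -ht)
  have hN : ∀ a b : F, N2 t a b = (a + b * (t / 2)) * (a + b * (t / 2)) := by
    intro a b; simp only [N2]; field_simp; linear_combination -(b * b) * ht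
  have e : N2One t ≃ {s : F // s * s = 1} × F :=
    { toFun := fun p => (⟨p.1.1 + p.1.2 * (t / 2), by rw [← hN]; exact p.2⟩, p.1.2)
      invFun := fun x => ⟨((x.1 : F) - x.2 * (t / 2), x.2), by rw [hN, sub_add_cancel]; exact x.1.2⟩
      left_inv := fun p => by refine Subtype.ext (Prod.ext ?_ ?_) <;> simp
      right_inv := fun x => by refine Prod.ext (Subtype.ext ?_) ?_ <;> simp }
  rw [Nat.card_congr e, Nat.card_prod, Nat.card_eq_fintype_card (α := F)]
  congr 1
  have hne : (1 : F) ≠ -1 := fun e => h2 (by linear_combination e)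
  rw [Nat.card_eq_fintype_card, Fintype.card_subtype,
    show (Finset.univ.filter fun s : F => s * s = 1) = {1, -1} by
      ext s; simp [mul_self_eq_one_iff]]
  exact Finset.card_pair hne

theorem card_double_even {t : F} (h2 : (2 : F) = 0) (ht : t = 0) :
    Nat.card (N2One t) = Fintype.card F := by
  subst ht
  have hN : ∀ a b : F, N2 (0 : F) a b = (a + b) * (a + b) := by
    intro a b; simp only [N2]; linear_combination -(a * b) * h2
  have hs : ∀ s : F, s * s = 1 → s = 1 := fun s hs => by
    rcases mul_self_eq_one_iff.1 hs with h | h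
    · exact h
    · rw [h]; linear_combination -h2
  have e : N2One (0 : F) ≃ F :=
    { toFun := fun p => p.1.2
      invFun := fun b => ⟨(1 - b, b), by rw [hN, sub_add_cancel, mul_one]⟩
      left_inv := fun p => Subtype.ext (Prod.ext
        (by linear_combination -hs _ ((hN p.1.1 p.1.2).symm.trans p.2)) rfl)
      right_inv := fun b => rfl }
  rw [Nat.card_congr e, Nat.card_eq_fintype_card]

theorem exists_noRoot : ∃ t : F, NoRoot t := by
  classical
  by_contra h
  push Not at h
  have h' : ∀ t : F, ∃ u : Fˣ, (u : F) + ((u⁻¹ : Fˣ) : F) = t := fun t => by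
    obtain ⟨r, hr⟩ := (noRoot_or_root t).resolve_left (h t)
    have h1 := mul_root hr
    refine ⟨Units.mk0 r (left_ne_zero_of_mul_eq_one h1), ?_⟩
    rw [Units.val_inv_eq_inv_val, Units.val_mk0, inv_eq_of_mul_eq_one_right h1]
    ring
  have hle := Nat.card_le_card_of_surjective (fun u : Fˣ => (u : F) + ((u⁻¹ : Fˣ) : F)) h'
  rw [Nat.card_units, Nat.card_eq_fintype_card] at hle
  have := Fintype.one_lt_card (α := F)
  omega

/-- A split discriminant which is not zero. -/
theorem exists_split (hq : 4 ≤ Fintype.card F) : ∃ t r : F, r * r - t * r + 1 = 0 ∧ t * t ≠ 4 := by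
  classical
  obtain ⟨r, hr⟩ : ∃ r : F, r ∉ ({0, 1, -1} : Finset F) := by
    by_contra h
    push Not at h
    have := Finset.card_le_card (s := (Finset.univ : Finset F)) (t := {0, 1, -1}) fun x _ => h x
    rw [Finset.card_univ] at this
    have := this.trans Finset.card_le_three
    omega
  simp at hr
  obtain ⟨h0, h1, h1'⟩ := hr
  refine ⟨r + r⁻¹, r, by field_simp; ring, fun e => ?_⟩
  have hsq : (r - r⁻¹) * (r - r⁻¹) = 0 := by
    have : r * r⁻¹ = 1 := mul_inv_cancel₀ h0
    linear_combination e - 4 * this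
  have hr2 : r * r = 1 := by
    have h := mul_self_eq_zero.1 hsq
    rw [sub_eq_zero] at h
    nth_rw 1 [h]
    exact inv_mul_cancel₀ h0
  rcases mul_self_eq_one_iff.1 hr2 with h | h
  · exact h1 h
  · exact h1' h

end Cfsg.Agent.SL2Class
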